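import Groth.Agent.NonAbLib.Extend.Away

/-!
# Extending maps from finitely presented approximations

A module recovered from opens on which it is finite projective is `FreeAway` each of them.
-/

set_option autoImplicit false

universe u v w

noncomputable section

namespace Groth.Agent.NonAbLib.Extend

variable {R : Type u} [CommRing R] {ι : Type w} {g : ι → R}

/-- Linear maps extend uniquely along a map bijective on each open. -/
theorem GLoc.exists_extend [Finite ι] {X M T : Type*} [AddCommGroup X] [Module R X] [AddCommGroup M]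
    [Module R M] [AddCommGroup T] [Module R T] (hT : GLoc g T) {c : X →ₗ[R] M} (hc : ∀ i, AwayBij (g i) c)
    (f : X →ₗ[R] T) : ∃ f' : M →ₗ[R] T, f'.comp c = f := by
  have huniq : ∀ i (x x' : X), c x = c x' → ∃ n : ℕ, g i ^ n • f x = g i ^ n • f x' := fun i x x' h => by
    obtain ⟨n, hn⟩ := (hc i).ker (x - x') (by rw [map_sub, h, sub_self])
    rw [smul_sub, sub_eq_zero] at hn
    exact ⟨n, by rw [← map_smul, hn, map_smul]⟩
  have hex : ∀ m, ∃ t : T, ∀ i x (n : ℕ), c x = g i ^ n • m → f x = g i ^ n • t := fun m => by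
    choose n x hx using fun i => (hc i).surj m
    obtain ⟨t, ht⟩ := hT.glue' n (fun i => f (x i)) fun i j => hT.ext fun k => by
      rw [← map_smul, ← map_smul]
      exact huniq k _ _ (by rw [map_smul, map_smul, hx, hx, smul_comm])
    refine ⟨t, fun i y p hy => hT.ext fun j => ?_⟩
    obtain ⟨q, hq⟩ := huniq j (g j ^ n j • y) (g i ^ p • x j) (by rw [map_smul, map_smul, hy, hx, smul_comm])
    refine ⟨q + n j, ?_⟩
    rw [pow_add, mul_smul, mul_smul, ← map_smul f (g j ^ n j) y, hq, map_smul, ← ht j,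
      smul_comm (g i ^ p) (g j ^ n j)]
  choose F hF using hex
  have hdet : ∀ m t, (∀ i, ∃ (n : ℕ) (x : X), c x = g i ^ n • m ∧ f x = g i ^ n • t) → F m = t :=
    fun m t ht => hT.ext fun i => by
      obtain ⟨n, x, hx, hfx⟩ := ht i
      exact ⟨n, by rw [← hF m i x n hx, hfx]⟩
  refine ⟨{ toFun := F
            map_add' := fun m m' => hdet _ _ fun i => ?_
            map_smul' := fun a m => hdet _ _ fun i => ?_ }, LinearMap.ext fun x => hdet _ _ fun i =>
    ⟨0, x, by rw [pow_zero, one_smul], by rw [pow_zero, one_smul]⟩⟩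
  · obtain ⟨n, x, hx⟩ := (hc i).surj m
    obtain ⟨n', x', hx'⟩ := (hc i).surj m'
    have h1 : c (g i ^ n' • x) = g i ^ (n + n') • m := by
      rw [map_smul, hx, smul_smul, ← pow_add, add_comm]
    have h2 : c (g i ^ n • x') = g i ^ (n + n') • m' := by rw [map_smul, hx', smul_smul, ← pow_add]
    refine ⟨n + n', g i ^ n' • x + g i ^ n • x', by rw [map_add, h1, h2, smul_add], ?_⟩
    rw [map_add, hF m i _ _ h1, hF m' i _ _ h2, smul_add]
  · obtain ⟨n, x, hx⟩ := (hc i).surj m
    exact ⟨n, a • x, by rw [map_smul, hx, smul_comm],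
      by rw [map_smul, hF m i x n hx, RingHom.id_apply, smul_comm]⟩

theorem GLoc.hom_ext [Finite ι] {X M T : Type*} [AddCommGroup X] [Module R X] [AddCommGroup M]
    [Module R M] [AddCommGroup T] [Module R T] (hT : GLoc g T) {c : X →ₗ[R] M} (hc : ∀ i, AwayBij (g i) c)
    {f f' : M →ₗ[R] T} (h : f.comp c = f'.comp c) : f = f' :=
  LinearMap.ext fun m => hT.ext fun i => by
    obtain ⟨n, x, hx⟩ := (hc i).surj m
    exact ⟨n, by rw [← map_smul, ← map_smul, ← hx]; exact LinearMap.congr_fun h x⟩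

/-- Finite projectivity on the opens gives `FreeAway`. -/
theorem freeAway_of_projective [Finite ι] {M : Type u} [AddCommGroup M] [Module R M] (hR : GLoc g R)
    (hM : GLoc g M) (Rl : ι → Type u) [∀ i, CommRing (Rl i)] [∀ i, Algebra R (Rl i)]
    [hl : ∀ i, IsLocalization.Away (g i) (Rl i)] (Ml : ι → Type u) [∀ i, AddCommGroup (Ml i)]
    [∀ i, Module R (Ml i)] [∀ i, Module (Rl i) (Ml i)] [∀ i, IsScalarTower R (Rl i) (Ml i)]
    (ρ : ∀ i, M →ₗ[R] Ml i) [hρ : ∀ i, IsLocalizedModule (Submonoid.powers (g i)) (ρ i)]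
    [∀ i, Module.FinitePresentation (Rl i) (Ml i)] [∀ i, Module.Projective (Rl i) (Ml i)] :
    ∀ i, FreeAway M (g i) := by
  classical
  cases nonempty_fintype ι
  have pow_of : ∀ i (s : Submonoid.powers (g i)), ∃ n : ℕ, (s : R) = g i ^ n := fun i s =>
    ⟨s.2.choose, s.2.choose_spec.symm⟩
  -- generators
  have hgen : ∀ i, ∃ (s : Finset M), Submodule.span (Rl i) (ρ i '' (s : Set M)) = ⊤ := fun i => by
    obtain ⟨t, ht⟩ := (Module.Finite.fg_top : (⊤ : Submodule (Rl i) (Ml i)).FG)
    choose a ha using fun z : Ml i => IsLocalizedModule.surj (Submonoid.powers (g i)) (ρ i) z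
    refine ⟨t.image fun z => (a z).1, eq_top_iff.2 (ht ▸ Submodule.span_le.2 fun z hz => ?_)⟩
    have hu : IsUnit (algebraMap R (Rl i) ((a z).2 : R)) := IsLocalization.map_units (Rl i) (a z).2
    rw [SetLike.mem_coe, ← (Submodule.smul_mem_iff_of_isUnit _ hu), algebraMap_smul, ← Submonoid.smul_def, ha z]
    exact Submodule.subset_span ⟨(a z).1, Finset.mem_coe.2 (Finset.mem_image_of_mem _ hz), rfl⟩
  choose s hs using hgen
  let G : Finset M := Finset.univ.biUnion s
  let e : Fin G.card ≃ G := G.equivFin.symm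
  let c₀ : (Fin G.card → R) →ₗ[R] M := Fintype.linearCombination R fun k => (e k : M)
  let ν : ∀ i, (Fin G.card → R) →ₗ[R] (Fin G.card → Rl i) := fun i => (Algebra.linearMap R (Rl i)).compLeft _
  let cl : ∀ i, (Fin G.card → Rl i) →ₗ[Rl i] Ml i := fun i => Fintype.linearCombination (Rl i) fun k => ρ i (e k : M)
  have hν : ∀ i v, cl i (ν i v) = ρ i (c₀ v) := fun i v => by
    simp only [cl, c₀, Fintype.linearCombination_apply, map_sum]
    exact Finset.sum_congr rfl fun k _ => by
      rw [map_smul]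
      exact algebraMap_smul (Rl i) (v k) _
  have hclsurj : ∀ i, Function.Surjective (cl i) := fun i => by
    rw [← LinearMap.range_eq_top, Fintype.range_linearCombination, eq_top_iff, ← hs i, Submodule.span_le]
    rintro _ ⟨m, hm, rfl⟩
    obtain ⟨k, hk⟩ := e.surjective ⟨m, Finset.mem_biUnion.2 ⟨i, Finset.mem_univ i, hm⟩⟩
    exact Submodule.subset_span ⟨k, by show ρ i (e k : M) = ρ i m; rw [hk]⟩
  -- relations
  have hrel : ∀ i, ∃ W : Finset (Fin G.card → R), (∀ w ∈ W, c₀ w = 0) ∧
      LinearMap.ker (cl i) ≤ Submodule.span (Rl i) (ν i '' (W : Set _)) := fun i => by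
    obtain ⟨t, ht⟩ := Module.FinitePresentation.fg_ker (cl i) (hclsurj i)
    have : ∀ z ∈ LinearMap.ker (cl i), ∃ (v : Fin G.card → R) (n : ℕ),
        c₀ v = 0 ∧ ν i v = algebraMap R (Rl i) (g i) ^ n • z := fun z hz => by
      obtain ⟨b, hb⟩ := IsLocalization.exist_integer_multiples_of_finite (Submonoid.powers (g i)) z
      choose v hv using hb
      obtain ⟨n, hn⟩ := pow_of i b
      have hνv : ν i v = algebraMap R (Rl i) (g i) ^ n • z := funext fun k => by
        show algebraMap R (Rl i) (v k) = algebraMap R (Rl i) (g i) ^ n * z k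
        rw [hv k, hn, Algebra.smul_def, map_pow]
      have h0 : ρ i (c₀ v) = 0 := by rw [← hν, hνv, map_smul, hz, smul_zero]
      obtain ⟨b', hb'⟩ := (IsLocalizedModule.eq_zero_iff (Submonoid.powers (g i)) (ρ i)).1 h0
      obtain ⟨n', hn'⟩ := pow_of i b'
      refine ⟨g i ^ n' • v, n' + n, by rw [map_smul, ← hn']; exact hb', ?_⟩
      rw [map_smul, hνv, ← algebraMap_smul (Rl i) (g i ^ n'), map_pow, smul_smul, ← pow_add]
    choose! v n hv0 hv using this
    refine ⟨t.image v, fun w hw => ?_, fun z hz => ?_⟩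
    · obtain ⟨z, hz, rfl⟩ := Finset.mem_image.1 hw
      exact hv0 z (ht ▸ Submodule.subset_span hz)
    · rw [← ht] at hz
      refine Submodule.span_le.2 (fun y hy => ?_) hz
      have hyk : y ∈ LinearMap.ker (cl i) := ht ▸ Submodule.subset_span hy
      have hu : IsUnit (algebraMap R (Rl i) (g i) ^ n y) :=
        (IsLocalization.Away.algebraMap_isUnit (g i)).pow _
      rw [SetLike.mem_coe, ← Submodule.smul_mem_iff_of_isUnit _ hu, ← hv y hyk]
      exact Submodule.subset_span ⟨v y, Finset.mem_coe.2 (Finset.mem_image_of_mem v hy), rfl⟩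
  choose W hW0 hWspan using hrel
  let K : Submodule R (Fin G.card → R) := Submodule.span R ((Finset.univ.biUnion W : Finset _) : Set _)
  have hK : K ≤ LinearMap.ker c₀ := Submodule.span_le.2 fun w hw => by
    obtain ⟨i, -, hi⟩ := Finset.mem_biUnion.1 (Finset.mem_coe.1 hw)
    exact hW0 i w hi
  let X := (Fin G.card → R) ⧸ K
  have : Module.FinitePresentation R X :=
    Module.finitePresentation_of_free_of_surjective K.mkQ K.mkQ_surjective
      (by rw [Submodule.ker_mkQ]; exact ⟨_, rfl⟩)
  let c : X →ₗ[R] M := K.liftQ c₀ hK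
  have hνloc : ∀ i, IsLocalizedModule (Submonoid.powers (g i)) (ν i) := fun i => by
    have h1 : IsLocalizedModule (Submonoid.powers (g i)) (Algebra.linearMap R (Rl i)) := inferInstance
    exact IsLocalizedModule.pi (Submonoid.powers (g i)) fun _ : Fin G.card => Algebra.linearMap R (Rl i)
  have hc : ∀ i, AwayBij (g i) c := fun i => by
    have := hνloc i
    refine ⟨fun m => ?_, fun x hx => ?_⟩
    · obtain ⟨z, hz⟩ := hclsurj i (ρ i m)
      obtain ⟨⟨v, b⟩, hv⟩ := IsLocalizedModule.surj (Submonoid.powers (g i)) (ν i) z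
      obtain ⟨n, hn⟩ := pow_of i b
      have : ρ i (c₀ v) = ρ i (g i ^ n • m) := by
        rw [← hν, ← hv, Submonoid.smul_def, LinearMap.map_smul_of_tower, hz, map_smul, hn]
      obtain ⟨b', hb'⟩ := (IsLocalizedModule.eq_iff_exists (Submonoid.powers (g i)) (ρ i)).1 this
      obtain ⟨n', hn'⟩ := pow_of i b'
      refine ⟨n' + n, K.mkQ (g i ^ n' • v), ?_⟩
      show c₀ (g i ^ n' • v) = _
      rw [map_smul, pow_add, mul_smul, ← hn']
      exact hb'
    · obtain ⟨v, rfl⟩ := K.mkQ_surjective x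
      have h1 : ν i v ∈ Submodule.span (Rl i) (ν i '' (W i : Set _)) := hWspan i (by
        show cl i (ν i v) = 0
        rw [hν, show c₀ v = 0 from hx, map_zero])
      have hspan : ∀ z ∈ Submodule.span (Rl i) (ν i '' (W i : Set _)), ∃ (n : ℕ) (w : Fin G.card → R),
          w ∈ K ∧ g i ^ n • z = ν i w := by
        intro z hz
        induction hz using Submodule.span_induction with
        | mem z hz =>
          obtain ⟨w, hw, rfl⟩ := hz
          exact ⟨0, w, Submodule.subset_span (Finset.mem_coe.2 (Finset.mem_biUnion.2 ⟨i, Finset.mem_univ i, hw⟩)),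
            by rw [pow_zero, one_smul]⟩
        | zero => exact ⟨0, 0, K.zero_mem, by rw [smul_zero, map_zero]⟩
        | add z z' _ _ hz hz' =>
          obtain ⟨n, w, hw, he⟩ := hz
          obtain ⟨n', w', hw', he'⟩ := hz'
          refine ⟨n + n', g i ^ n' • w + g i ^ n • w', K.add_mem (K.smul_mem _ hw) (K.smul_mem _ hw'), ?_⟩
          rw [map_add, map_smul, map_smul, ← he, ← he', smul_smul, smul_smul, smul_add, pow_add,
            mul_comm (g i ^ n) (g i ^ n')]
        | smul a z _ hz =>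
          obtain ⟨n, w, hw, he⟩ := hz
          obtain ⟨a₀, b, rfl⟩ := IsLocalization.exists_mk'_eq (Submonoid.powers (g i)) a
          obtain ⟨m, hm⟩ := pow_of i b
          refine ⟨m + n, a₀ • w, K.smul_mem _ hw, ?_⟩
          rw [map_smul, ← he, pow_add, mul_smul, smul_comm (g i ^ n), ← smul_assoc, ← hm,
            show (b : R) • IsLocalization.mk' (Rl i) a₀ b = algebraMap R (Rl i) a₀ by
              rw [Algebra.smul_def, IsLocalization.mk'_spec'], algebraMap_smul]
      obtain ⟨n, w, hw, hb⟩ := hspan _ h1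
      have : ν i (g i ^ n • v) = ν i w := by rw [map_smul, hb]
      obtain ⟨b', hb'⟩ := (IsLocalizedModule.eq_iff_exists (Submonoid.powers (g i)) (ν i)).1 this
      obtain ⟨n', hn'⟩ := pow_of i b'
      refine ⟨n' + n, ?_⟩
      rw [← map_smul, pow_add, mul_smul, ← hn', show (b' : R) • g i ^ n • v = (b' : R) • w from hb']
      exact (Submodule.Quotient.mk_eq_zero K).2 (K.smul_mem _ hw)
  intro i
  let ρc : X →ₗ[R] Ml i := (ρ i).comp c
  have hρc : IsLocalizedModule (Submonoid.powers (g i)) ρc :=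
    { map_units := IsLocalizedModule.map_units (ρ i)
      surj := fun y => by
        obtain ⟨⟨m, b⟩, hm⟩ := IsLocalizedModule.surj (Submonoid.powers (g i)) (ρ i) y
        obtain ⟨n, x, hx⟩ := (hc i).surj m
        obtain ⟨p, hp⟩ := pow_of i b
        refine ⟨⟨x, ⟨g i ^ (n + p), _, rfl⟩⟩, ?_⟩
        show g i ^ (n + p) • y = ρ i (c x)
        rw [hx, map_smul, pow_add, mul_smul, ← hp]
        exact congrArg _ hm
      exists_of_eq := fun {x x'} h => by
        obtain ⟨b, hb⟩ := IsLocalizedModule.exists_of_eq (S := Submonoid.powers (g i)) (f := ρ i) h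
        obtain ⟨p, hp⟩ := pow_of i b
        obtain ⟨q, hq⟩ := (hc i).ker (g i ^ p • x - g i ^ p • x') (by
          rw [map_sub, map_smul, map_smul, ← hp]
          exact sub_eq_zero.2 hb)
        refine ⟨⟨g i ^ (q + p), _, rfl⟩, ?_⟩
        rw [smul_sub, sub_eq_zero] at hq
        show g i ^ (q + p) • x = g i ^ (q + p) • x'
        rw [pow_add, mul_smul, mul_smul, hq] }
  obtain ⟨σ, hσ⟩ := Module.projective_lifting_property (cl i) LinearMap.id (hclsurj i)
  have := hνloc i
  obtain ⟨l, b, hl⟩ := Module.FinitePresentation.exists_lift_of_isLocalizedModule (Submonoid.powers (g i)) (ν i)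
    ((σ.restrictScalars R).comp ρc)
  obtain ⟨a, ha⟩ := pow_of i b
  have hdiff : ∀ x, ∃ p : ℕ, g i ^ p • (K.mkQ (l x) - g i ^ a • x) = 0 := fun x => by
    have h1 : ρc (K.mkQ (l x)) = ρc (g i ^ a • x) := by
      show ρ i (c₀ (l x)) = _
      rw [← hν, ← LinearMap.comp_apply (ν i) l, hl, LinearMap.smul_apply, LinearMap.comp_apply,
        LinearMap.restrictScalars_apply, Submonoid.smul_def, LinearMap.map_smul_of_tower,
        ← LinearMap.comp_apply (cl i) σ, hσ, LinearMap.id_apply, map_smul ρc, ha]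
    obtain ⟨b', hb'⟩ := hρc.exists_of_eq h1
    obtain ⟨p, hp⟩ := pow_of i b'
    exact ⟨p, by rw [smul_sub, sub_eq_zero, ← hp]; exact hb'⟩
  choose p hp using fun k => hdiff (K.mkQ (Pi.single k 1))
  let P := Finset.univ.sup p
  obtain ⟨φ, hφ⟩ := (hR.pi (κ := Fin G.card)).exists_extend hc l
  refine ⟨P + a, G.card, φ, g i ^ P • c₀, fun m => ?_⟩
  have hall : ∀ x : X, g i ^ P • (K.mkQ (l x) - g i ^ a • x) = 0 := by
    intro x
    obtain ⟨v, rfl⟩ := K.mkQ_surjective x
    have : (g i ^ P • (K.mkQ.comp l - g i ^ a • LinearMap.id) : X →ₗ[R] X).comp K.mkQ = 0 := by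
      refine LinearMap.pi_ext' fun k => LinearMap.ext_ring ?_
      show g i ^ P • (K.mkQ (l (K.mkQ (Pi.single k 1))) - g i ^ a • K.mkQ (Pi.single k 1)) = 0
      rw [show P = (P - p k) + p k from (Nat.sub_add_cancel (Finset.le_sup (Finset.mem_univ k))).symm, pow_add,
        mul_smul, hp, smul_zero]
    exact LinearMap.congr_fun this v
  have key : (g i ^ P • c₀.comp φ).comp c = (g i ^ (P + a) • (LinearMap.id : M →ₗ[R] M)).comp c :=
    LinearMap.ext fun x => by
      show g i ^ P • c₀ ((φ.comp c) x) = g i ^ (P + a) • c x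
      rw [hφ, show c₀ (l x) = c (K.mkQ (l x)) from rfl, pow_add, mul_smul, ← map_smul c, ← map_smul c (g i ^ a),
        ← map_smul c (g i ^ P)]
      have := hall x
      rw [smul_sub, sub_eq_zero] at this
      rw [this]
  exact LinearMap.congr_fun (hM.hom_ext hc key) m

end Groth.Agent.NonAbLib.Extend
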