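import Mathlib

/-!
# Modules determined away from a closed subset

For a finite family `g` of elements of `R`, a module is `GLoc g` if it is recovered from its
sections on the union of the basic opens of the `g i`; it is `FreeAway a` if the identity times a
power of `a` factors through a finite free module; a map is `AwayBij a` if it becomes bijective
after inverting `a`.
-/

set_option autoImplicit false

universe u v w x

open TensorProduct

noncomputable section

namespace Groth.Agent.NonAbLib.Extend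

variable {R : Type u} [CommRing R] {ι : Type w}

/-- The identity of `M` times a power of `a` factors through a finite free module. -/
def FreeAway (M : Type v) [AddCommGroup M] [Module R M] (a : R) : Prop :=
  ∃ (N r : ℕ) (φ : M →ₗ[R] (Fin r → R)) (ψ : (Fin r → R) →ₗ[R] M), ∀ m, ψ (φ m) = a ^ N • m

/-- `M` is recovered from its restriction to the union of the basic opens of the `g i`. -/
structure GLoc (g : ι → R) (M : Type v) [AddCommGroup M] [Module R M] : Prop where
  inj : ∀ m : M, (∀ i, ∃ n : ℕ, g i ^ n • m = 0) → m = 0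
  glue : ∀ (N : ℕ) (m : ι → M), (∀ i j, g j ^ N • m i = g i ^ N • m j) → ∃ x : M, ∀ i, g i ^ N • x = m i

/-- The map becomes bijective after inverting `a`. -/
structure AwayBij {M : Type v} {M' : Type x} [AddCommMonoid M] [Module R M] [AddCommMonoid M'] [Module R M']
    (a : R) (f : M →ₗ[R] M') : Prop where
  surj : ∀ y, ∃ (n : ℕ) (m : M), f m = a ^ n • y
  ker : ∀ m, f m = 0 → ∃ n : ℕ, a ^ n • m = 0

section

variable {g : ι → R} {M : Type v} [AddCommGroup M] [Module R M] {M' : Type x} [AddCommGroup M'] [Module R M']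

theorem GLoc.inj_of (hM : GLoc g M) {m : M} (N : ℕ) (h : ∀ i, g i ^ N • m = 0) : m = 0 :=
  hM.inj m fun i => ⟨N, h i⟩

theorem GLoc.ext (hM : GLoc g M) {m m' : M} (h : ∀ i, ∃ n : ℕ, g i ^ n • m = g i ^ n • m') : m = m' :=
  sub_eq_zero.1 (hM.inj _ fun i => (h i).imp fun n hn => by rw [smul_sub, hn, sub_self])

/-- Glueing with individual exponents. -/
theorem GLoc.glue' [Finite ι] (hM : GLoc g M) (n : ι → ℕ) (m : ι → M)
    (h : ∀ i j, g j ^ n j • m i = g i ^ n i • m j) : ∃ x : M, ∀ i, g i ^ n i • x = m i := by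
  cases nonempty_fintype ι
  let N := Finset.univ.sup n
  have hN : ∀ i, n i ≤ N := fun i => Finset.le_sup (Finset.mem_univ i)
  have hpow : ∀ i, g i ^ N = g i ^ (N - n i) * g i ^ n i := fun i => by
    rw [← pow_add, Nat.sub_add_cancel (hN i)]
  obtain ⟨x, hx⟩ := hM.glue N (fun i => g i ^ (N - n i) • m i) fun i j => by
    rw [hpow j, hpow i, mul_smul, mul_smul, smul_comm (g j ^ n j), smul_comm (g i ^ n i), h,
      smul_comm (g i ^ (N - n i)) (g j ^ (N - n j))]
  refine ⟨x, fun i => hM.ext fun j => ?_⟩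
  refine ⟨N, ?_⟩
  rw [smul_comm, hx j, smul_comm, ← h i j, ← mul_smul, ← hpow]

theorem GLoc.of_retract (hM : GLoc g M) (i : M' →ₗ[R] M) (p : M →ₗ[R] M') (h : ∀ y, p (i y) = y) :
    GLoc g M' where
  inj m hm := by
    rw [← h m, hM.inj (i m) fun k => (hm k).imp fun n hn => by rw [← map_smul, hn, map_zero], map_zero]
  glue N m hm := by
    obtain ⟨x, hx⟩ := hM.glue N (fun k => i (m k)) fun a b => by rw [← map_smul, ← map_smul, hm]
    exact ⟨p x, fun k => by rw [← map_smul, hx, h]⟩

theorem GLoc.of_equiv (hM : GLoc g M) (e : M ≃ₗ[R] M') : GLoc g M' :=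
  hM.of_retract e.symm.toLinearMap e.toLinearMap e.apply_symm_apply

theorem GLoc.pi {κ : Type*} (hM : GLoc g M) : GLoc g (κ → M) where
  inj m hm := funext fun k => hM.inj (m k) fun i => (hm i).imp fun _ hn => congrFun hn k
  glue N m hm := by
    choose x hx using fun k => hM.glue N (fun i => m i k) fun a b => congrFun (hm a b) k
    exact ⟨x, fun i => funext fun k => hx k i⟩

theorem GLoc.hom (hM : GLoc g M) : GLoc g (M' →ₗ[R] M) where
  inj f hf := LinearMap.ext fun y => hM.inj (f y) fun i => (hf i).imp fun n hn => by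
    rw [← LinearMap.smul_apply, hn, LinearMap.zero_apply]
  glue N f hf := by
    choose x hx using fun y : M' => hM.glue N (fun i => f i y) fun a b => by
      rw [← LinearMap.smul_apply, ← LinearMap.smul_apply, hf]
    refine ⟨{ toFun := x
              map_add' := fun y z => hM.ext fun i => ⟨N, ?_⟩
              map_smul' := fun c y => hM.ext fun i => ⟨N, ?_⟩ }, fun i => LinearMap.ext fun y => hx y i⟩
    · rw [smul_add, hx, hx, hx, map_add]
    · rw [RingHom.id_apply, hx, map_smul, smul_comm, hx]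

theorem GLoc.tensor_projective (hM : GLoc g M) (P : Type x) [AddCommGroup P] [Module R P]
    [Module.Finite R P] [Module.Projective R P] : GLoc g (P ⊗[R] M) := by
  obtain ⟨n, p, s, -, -, hps⟩ := Module.Finite.exists_comp_eq_id_of_projective R P
  let e : (Fin n → R) ⊗[R] M ≃ₗ[R] (Fin n → M) :=
    TensorProduct.comm R _ _ ≪≫ₗ TensorProduct.piScalarRight R R M (Fin n)
  refine ((hM.pi (κ := Fin n)).of_equiv e.symm).of_retract (s.rTensor M) (p.rTensor M) fun y => ?_
  rw [← LinearMap.rTensor_comp_apply, hps, LinearMap.rTensor_id_apply]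

theorem AwayBij.of_bijective (a : R) {f : M →ₗ[R] M'} (h : Function.Bijective f) : AwayBij a f :=
  ⟨fun y => ⟨0, (h.2 y).choose, by rw [(h.2 y).choose_spec, pow_zero, one_smul]⟩,
    fun m hm => ⟨0, by rw [h.1 (hm.trans (map_zero f).symm), smul_zero]⟩⟩

theorem AwayBij.comp {M₀ M₁ M₂ : Type*} [AddCommMonoid M₀] [Module R M₀] [AddCommMonoid M₁] [Module R M₁]
    [AddCommMonoid M₂] [Module R M₂] {a : R} {f : M₀ →ₗ[R] M₁}
    {f' : M₁ →ₗ[R] M₂} (hf' : AwayBij a f') (hf : AwayBij a f) : AwayBij a (f'.comp f) where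
  surj y := by
    obtain ⟨n, m, hm⟩ := hf'.surj y
    obtain ⟨n', z, hz⟩ := hf.surj m
    exact ⟨n' + n, z, by rw [LinearMap.comp_apply, hz, map_smul, hm, pow_add, mul_smul]⟩
  ker m hm := by
    obtain ⟨n, hn⟩ := hf'.ker _ hm
    obtain ⟨n', hn'⟩ := hf.ker (a ^ n • m) (by rw [map_smul, hn])
    exact ⟨n' + n, by rw [pow_add, mul_smul, hn']⟩

theorem AwayBij.pi {a : R} {f : M →ₗ[R] M'} (hf : AwayBij a f) (κ : Type*) [Finite κ] :
    AwayBij a (f.compLeft κ) where
  surj y := by
    cases nonempty_fintype κ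
    choose n m hm using fun k => hf.surj (y k)
    let N := Finset.univ.sup n
    refine ⟨N, fun k => a ^ (N - n k) • m k, funext fun k => ?_⟩
    show f (a ^ (N - n k) • m k) = a ^ N • y k
    rw [map_smul, hm, ← mul_smul, ← pow_add, Nat.sub_add_cancel (Finset.le_sup (Finset.mem_univ k))]
  ker m hm := by
    cases nonempty_fintype κ
    choose n hn using fun k => hf.ker (m k) (congrFun hm k)
    let N := Finset.univ.sup n
    refine ⟨N, funext fun k => ?_⟩
    show a ^ N • m k = 0
    rw [show a ^ N = a ^ (N - n k) * a ^ n k by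
      rw [← pow_add, Nat.sub_add_cancel (Finset.le_sup (Finset.mem_univ k) : n k ≤ N)], mul_smul, hn,
      smul_zero]

/-- A map between modules recovered from the opens which is bijective on each open is bijective. -/
theorem bijective_of_awayBij [Finite ι] (hM : GLoc g M) (hM' : GLoc g M') {f : M →ₗ[R] M'}
    (hf : ∀ i, AwayBij (g i) f) : Function.Bijective f := by
  refine ⟨(injective_iff_map_eq_zero f).2 fun m hm => hM.inj m fun i => (hf i).ker m hm, fun y => ?_⟩
  choose n m hm using fun i => (hf i).surj y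
  obtain ⟨z, hz⟩ := hM.glue' n m fun i j => hM.ext fun k => by
    obtain ⟨p, hp⟩ := (hf k).ker (g j ^ n j • m i - g i ^ n i • m j)
      (by rw [map_sub, map_smul, map_smul, hm, hm, smul_comm, sub_self])
    exact ⟨p, by rwa [smul_sub, sub_eq_zero] at hp⟩
  exact ⟨z, hM'.ext fun i => ⟨n i, by rw [← map_smul, hz, hm]⟩⟩

/-- Two modules recovered from the opens which receive maps bijective on each open from a third
are isomorphic. -/
theorem nonempty_equiv_of_awayBij [Finite ι] {X : Type*} [AddCommGroup X] [Module R X]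
    (hM : GLoc g M) (hM' : GLoc g M') {c : X →ₗ[R] M} {c' : X →ₗ[R] M'}
    (hc : ∀ i, AwayBij (g i) c) (hc' : ∀ i, AwayBij (g i) c') : Nonempty (M ≃ₗ[R] M') := by
  let W : Submodule R (M × M') :=
    { carrier := {p | ∀ i, ∃ (n : ℕ) (z : X), g i ^ n • p = (c z, c' z)}
      zero_mem' := fun i => ⟨0, 0, by simp only [map_zero, smul_zero]; rfl⟩
      add_mem' := fun {p q} hp hq i => by
        obtain ⟨n, z, hz⟩ := hp i
        obtain ⟨n', z', hz'⟩ := hq i
        refine ⟨n + n', g i ^ n' • z + g i ^ n • z', ?_⟩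
        rw [map_add, map_add, map_smul, map_smul, map_smul, map_smul, smul_add, pow_add]
        rw [show (g i ^ n * g i ^ n') • p = g i ^ n' • (c z, c' z) by rw [← hz, ← mul_smul, mul_comm],
          show (g i ^ n * g i ^ n') • q = g i ^ n • (c z', c' z') by rw [← hz', ← mul_smul]]
        rfl
      smul_mem' := fun r p hp i => by
        obtain ⟨n, z, hz⟩ := hp i
        refine ⟨n, r • z, ?_⟩
        rw [smul_comm, hz, map_smul, map_smul]
        rfl }
  have hW : GLoc g W :=
    { inj := fun p hp => by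
        refine Subtype.ext (Prod.ext (hM.inj _ fun i => ?_) (hM'.inj _ fun i => ?_)) <;>
          obtain ⟨n, hn⟩ := hp i
        · exact ⟨n, congrArg (fun q : W => q.1.1) hn⟩
        · exact ⟨n, congrArg (fun q : W => q.1.2) hn⟩
      glue := fun N m hm => by
        obtain ⟨a, ha⟩ := hM.glue N (fun i => (m i).1.1) fun i j => congrArg (fun q : W => q.1.1) (hm i j)
        obtain ⟨b, hb⟩ := hM'.glue N (fun i => (m i).1.2) fun i j => congrArg (fun q : W => q.1.2) (hm i j)
        refine ⟨⟨(a, b), fun i => ?_⟩, fun i => Subtype.ext (Prod.ext (ha i) (hb i))⟩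
        obtain ⟨n, z, hz⟩ := (m i).2 i
        refine ⟨n + N, z, ?_⟩
        rw [← hz, pow_add, mul_smul]
        exact congrArg _ (Prod.ext (ha i) (hb i)) }
  let p₁ : W →ₗ[R] M := (LinearMap.fst R M M').comp W.subtype
  let p₂ : W →ₗ[R] M' := (LinearMap.snd R M M').comp W.subtype
  let d : X →ₗ[R] W := LinearMap.codRestrict W (c.prod c') fun z i => ⟨0, z, by simp⟩
  have h₁ : ∀ i, AwayBij (g i) p₁ := fun i =>
    ⟨fun y => by
        obtain ⟨n, z, hz⟩ := (hc i).surj y
        exact ⟨n, d z, hz⟩,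
      fun p hp => by
        obtain ⟨n, z, hz⟩ := p.2 i
        have h0 : c z = 0 := by
          rw [show c z = g i ^ n • p.1.1 from (congrArg Prod.fst hz).symm, show p.1.1 = 0 from hp, smul_zero]
        obtain ⟨n', hn'⟩ := (hc i).ker z h0
        refine ⟨n' + n, Subtype.ext ?_⟩
        show g i ^ (n' + n) • p.1 = 0
        rw [pow_add, mul_smul, hz, Prod.smul_mk, ← map_smul, ← map_smul, hn', map_zero, map_zero,
          Prod.mk_zero_zero]⟩
  have h₂ : ∀ i, AwayBij (g i) p₂ := fun i =>
    ⟨fun y => by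
        obtain ⟨n, z, hz⟩ := (hc' i).surj y
        exact ⟨n, d z, hz⟩,
      fun p hp => by
        obtain ⟨n, z, hz⟩ := p.2 i
        have h0 : c' z = 0 := by
          rw [show c' z = g i ^ n • p.1.2 from (congrArg Prod.snd hz).symm, show p.1.2 = 0 from hp, smul_zero]
        obtain ⟨n', hn'⟩ := (hc' i).ker z h0
        refine ⟨n' + n, Subtype.ext ?_⟩
        show g i ^ (n' + n) • p.1 = 0
        rw [pow_add, mul_smul, hz, Prod.smul_mk, ← map_smul, ← map_smul, hn', map_zero, map_zero,
          Prod.mk_zero_zero]⟩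
  exact ⟨(LinearEquiv.ofBijective p₁ (bijective_of_awayBij hW hM h₁)).symm.trans
    (LinearEquiv.ofBijective p₂ (bijective_of_awayBij hW hM' h₂))⟩

/-- `FreeAway` is inherited by the radical. -/
theorem FreeAway.of_mem_radical {κ : Type*} [Fintype κ] {a : R} {f : κ → R}
    (hf : ∀ k, FreeAway M (f k)) (ha : a ∈ (Ideal.span (Set.range f)).radical) : FreeAway M a := by
  classical
  choose N r φ ψ h using hf
  have hle : (Ideal.span (Set.range f)).radical ≤ (Ideal.span (Set.range fun k => f k ^ N k)).radical := by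
    refine Ideal.radical_le_radical_iff.2 (Ideal.span_le.2 ?_)
    rintro _ ⟨k, rfl⟩
    exact ⟨N k, Ideal.subset_span ⟨k, rfl⟩⟩
  obtain ⟨K, hK⟩ := hle ha
  obtain ⟨c, hc⟩ := Ideal.mem_span_range_iff_exists_fun.1 hK
  let e : ((Σ k, Fin (r k)) → R) ≃ₗ[R] (Fin (Fintype.card (Σ k, Fin (r k))) → R) :=
    LinearEquiv.funCongrLeft R R (Fintype.equivFin _).symm
  let φ' : M →ₗ[R] ((Σ k, Fin (r k)) → R) := LinearMap.pi fun p => (LinearMap.proj p.2).comp (φ p.1)
  let ψ' : ((Σ k, Fin (r k)) → R) →ₗ[R] M :=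
    ∑ k, c k • (ψ k).comp (LinearMap.funLeft R R fun j => (⟨k, j⟩ : Σ k, Fin (r k)))
  refine ⟨K, _, e.toLinearMap.comp φ', ψ'.comp e.symm.toLinearMap, fun m => ?_⟩
  rw [LinearMap.comp_apply, LinearMap.comp_apply, LinearEquiv.coe_coe, LinearEquiv.coe_coe,
    e.symm_apply_apply]
  simp only [ψ', LinearMap.sum_apply, LinearMap.smul_apply, LinearMap.comp_apply]
  rw [← hc, Finset.sum_smul]
  refine Finset.sum_congr rfl fun k _ => ?_
  rw [mul_smul, ← h k m]
  rfl

theorem FreeAway.finite_projective (h : FreeAway M (1 : R)) :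
    Module.Finite R M ∧ Module.Projective R M := by
  obtain ⟨N, r, φ, ψ, h⟩ := h
  have h' : ψ.comp φ = LinearMap.id := LinearMap.ext fun m => by simp [h]
  exact ⟨Module.Finite.of_surjective ψ fun m => ⟨φ m, by simp [h]⟩, Module.Projective.of_split φ ψ h'⟩

theorem FreeAway.pow_smul_mem {a : R} (h : FreeAway M a) :
    ∃ (N : ℕ) (P : Submodule R M), P.FG ∧ ∀ m, a ^ N • m ∈ P := by
  obtain ⟨N, r, φ, ψ, h⟩ := h
  exact ⟨N, LinearMap.range ψ, Module.Finite.iff_fg.1 inferInstance, fun m => ⟨φ m, h m⟩⟩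

/-- Glueing along another family, through the free factorisations. -/
theorem GLoc.change [Finite ι] {κ : Type*} {G : κ → R} (hM : GLoc g M) (hfree : ∀ i, FreeAway M (g i))
    (hR : GLoc G R) : GLoc G M := by
  cases nonempty_fintype ι
  choose N r φ ψ h using hfree
  refine ⟨fun m hm => hM.inj m fun i => ⟨N i, ?_⟩, fun P m hm => ?_⟩
  · have hφ : φ i m = 0 := (hR.pi (κ := Fin (r i))).inj (φ i m) fun k => (hm k).imp fun n hn => by
      rw [← map_smul, hn, map_zero]
    rw [← h, hφ, map_zero]
  · choose c hc using fun i => (hR.pi (κ := Fin (r i))).glue P (fun k => φ i (m k)) fun k l => by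
      rw [← map_smul, ← map_smul, hm]
    have hy : ∀ i k, G k ^ P • ψ i (c i) = g i ^ N i • m k := fun i k => by rw [← map_smul, hc, h]
    have hinj : ∀ z : M, (∀ k, G k ^ P • z = 0) → z = 0 := fun z hz => hM.inj z fun i => ⟨N i, by
      have hφ : φ i z = 0 := (hR.pi (κ := Fin (r i))).inj (φ i z) fun k => ⟨P, by
        rw [← map_smul, hz, map_zero]⟩
      rw [← h, hφ, map_zero]⟩
    obtain ⟨z, hz⟩ := hM.glue' N (fun i => ψ i (c i)) fun i j => by
      refine sub_eq_zero.1 (hinj _ fun k => ?_)
      rw [smul_sub, smul_comm, hy, smul_comm (G k ^ P), hy, smul_comm, sub_self]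
    refine ⟨z, fun k => hM.ext fun i => ⟨N i, ?_⟩⟩
    rw [smul_comm, hz, hy]

end

section Localization

variable {g : ι → R} {M : Type v} [AddCommGroup M] [Module R M] (S : Submonoid R) (R' : Type u) [CommRing R']
  [Algebra R R'] [IsLocalization S R']

instance isLocalizedModule_mk : IsLocalizedModule S (TensorProduct.mk R R' M 1) :=
  (isLocalizedModule_iff_isBaseChange S R' _).2 (TensorProduct.isBaseChange R M R')

include S in
theorem GLoc.localize [Finite ι] (hM : GLoc g M) :
    GLoc (fun i => algebraMap R R' (g i)) (R' ⊗[R] M) := by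
  cases nonempty_fintype ι
  let f := TensorProduct.mk R R' M 1
  have key : ∀ (n : ℕ) (i : ι) (y : R' ⊗[R] M), algebraMap R R' (g i) ^ n • y = g i ^ n • y :=
    fun n i y => by rw [← map_pow, algebraMap_smul]
  refine ⟨fun y hy => ?_, fun N y hy => ?_⟩
  · obtain ⟨⟨m, s⟩, rfl⟩ := IsLocalizedModule.mk'_surjective S f y
    choose n hn using hy
    have : ∀ i, ∃ u : S, g i ^ n i • (u • m) = 0 := fun i => by
      have := hn i
      simp only [Function.uncurry_apply_pair] at this
      rw [key, ← IsLocalizedModule.mk'_smul, IsLocalizedModule.mk'_eq_zero'] at this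
      obtain ⟨u, hu⟩ := this
      exact ⟨u, by rw [smul_comm]; exact hu⟩
    choose u hu using this
    classical
    simp only [Function.uncurry_apply_pair]
    refine (IsLocalizedModule.mk'_eq_zero' f s).2 ⟨∏ i, u i, hM.inj _ fun i => ⟨n i, ?_⟩⟩
    rw [← Finset.prod_erase_mul Finset.univ u (Finset.mem_univ i), mul_smul, smul_comm, hu, smul_zero]
  · obtain ⟨b, hb⟩ := IsLocalizedModule.exist_integer_multiples_of_finite S f y
    choose z hz using hb
    have : ∀ p : ι × ι, ∃ u : S, u • (g p.2 ^ N • z p.1) = u • (g p.1 ^ N • z p.2) := fun p => by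
      refine (IsLocalizedModule.eq_iff_exists S f).1 ?_
      rw [map_smul, map_smul, hz, hz, smul_comm, ← key, hy, key, smul_comm]
    choose u hu using this
    classical
    let U := ∏ p, u p
    obtain ⟨x, hx⟩ := hM.glue N (fun i => U • z i) fun i j => by
      rw [smul_comm, smul_comm (g i ^ N)]
      rw [show U = (∏ p ∈ Finset.univ.erase (i, j), u p) * u (i, j) from
        (Finset.prod_erase_mul Finset.univ u (Finset.mem_univ (i, j))).symm, mul_smul, mul_smul, hu]
    refine ⟨IsLocalizedModule.mk' f x (U * b), fun i => ?_⟩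
    rw [key, ← IsLocalizedModule.mk'_smul, hx, IsLocalizedModule.mk'_eq_iff, Submonoid.smul_def, map_smul, hz,
      Submonoid.smul_def, Submonoid.coe_mul, mul_smul]

theorem FreeAway.baseChange {a : R} (h : FreeAway M a) (A : Type*) [CommRing A] [Algebra R A] :
    FreeAway (A ⊗[R] M) (algebraMap R A a) := by
  classical
  obtain ⟨N, r, φ, ψ, h⟩ := h
  let e : A ⊗[R] (Fin r → R) ≃ₗ[A] (Fin r → A) := TensorProduct.piScalarRight R A A (Fin r)
  refine ⟨N, r, e.toLinearMap.comp (φ.baseChange A), (ψ.baseChange A).comp e.symm.toLinearMap, fun z => ?_⟩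
  simp only [LinearMap.comp_apply, LinearEquiv.coe_coe, LinearEquiv.symm_apply_apply]
  rw [← map_pow, algebraMap_smul]
  induction z using TensorProduct.induction_on with
  | zero => simp
  | tmul b m => simp [h, TensorProduct.tmul_smul]
  | add z z' hz hz' => rw [map_add, map_add, hz, hz', smul_add]

/-- Endomorphisms commute with localisation where the module is free away. -/
theorem awayBij_endLocalize {a : R} (h : FreeAway M a) :
    (∀ G : Module.End R' (R' ⊗[R] M), ∃ (n : ℕ) (F : Module.End R M) (s : S),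
      F.baseChange R' = (s : R) • a ^ n • G) ∧
    ∀ F : Module.End R M, F.baseChange R' = 0 → ∃ (n : ℕ) (s : S), (s : R) • a ^ n • F = 0 := by
  classical
  obtain ⟨N, r, φ, ψ, h⟩ := h
  let f := TensorProduct.mk R R' M 1
  constructor
  · intro G
    obtain ⟨s, hs⟩ := IsLocalizedModule.exist_integer_multiples_of_finite S f
      fun k => G (f (ψ (Pi.single k 1)))
    choose z hz using hs
    let F : Module.End R M := (Fintype.linearCombination R z).comp φ
    refine ⟨N, F, s, TensorProduct.AlgebraTensorModule.ext fun b m => ?_⟩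
    have h1 : f (F m) = (s : R) • a ^ N • G (f m) := by
      simp only [F, LinearMap.comp_apply, Fintype.linearCombination_apply]
      conv_rhs => rw [← LinearMap.map_smul_of_tower G, ← map_smul f, ← h, pi_eq_sum_univ' (φ m)]
      simp only [map_sum, map_smul, LinearMap.map_smul_of_tower, Finset.smul_sum]
      refine Finset.sum_congr rfl fun k _ => ?_
      rw [smul_comm, hz]
    show b ⊗ₜ[R] F m = _
    have hb : ∀ y : M, (b ⊗ₜ[R] y : R' ⊗[R] M) = b • f y := fun y => by
      simp [f, TensorProduct.smul_tmul']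
    rw [hb, h1, hb]
    simp only [LinearMap.smul_apply, map_smul]
  · intro F hF
    have : ∀ k, ∃ u : S, u • F (ψ (Pi.single k 1)) = 0 := fun k => by
      refine (IsLocalizedModule.eq_zero_iff S f).1 ?_
      exact LinearMap.congr_fun hF (1 ⊗ₜ ψ (Pi.single k 1))
    choose u hu using this
    refine ⟨N, ∏ k, u k, LinearMap.ext fun m => ?_⟩
    rw [LinearMap.smul_apply, LinearMap.smul_apply, ← map_smul, ← h, pi_eq_sum_univ' (φ m), map_sum, map_sum,
      Finset.smul_sum, LinearMap.zero_apply]
    refine Finset.sum_eq_zero fun k _ => ?_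
    rw [map_smul, map_smul, smul_comm]
    show _ • (↑(∏ j, u j) : R) • F (ψ (Pi.single k 1)) = 0
    rw [← Finset.prod_erase_mul Finset.univ u (Finset.mem_univ k), Submonoid.coe_mul, mul_smul,
      show (u k : R) • F (ψ (Pi.single k 1)) = 0 from hu k, smul_zero, smul_zero]

include S in
/-- The endomorphism presentation localises. -/
theorem exists_endLocalize [Finite ι] {n : ℕ} (hfree : ∀ i, FreeAway M (g i))
    (Φ : (Fin n → M) →ₗ[R] Module.End R M) (hΦ : ∀ i, AwayBij (g i) Φ) :
    ∃ Ψ : (Fin n → R' ⊗[R] M) →ₗ[R'] Module.End R' (R' ⊗[R] M),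
      ∀ i, AwayBij (algebraMap R R' (g i)) Ψ := by
  classical
  let f := TensorProduct.mk R R' M 1
  let bc : Module.End R M →ₗ[R] Module.End R' (R' ⊗[R] M) := LinearMap.baseChangeHom R R' M M
  let Ψ : (Fin n → R' ⊗[R] M) →ₗ[R'] Module.End R' (R' ⊗[R] M) :=
    ∑ k, (LinearMap.liftBaseChange R' (bc.comp (Φ.comp (LinearMap.single R (fun _ => M) k)))).comp
      (LinearMap.proj k)
  have hΨ : ∀ v : Fin n → M, Ψ (fun k => f (v k)) = (Φ v).baseChange R' := fun v => by
    simp only [Ψ, LinearMap.sum_apply, LinearMap.comp_apply, LinearMap.proj_apply]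
    conv_rhs => rw [← Finset.univ_sum_single v, map_sum]
    rw [show (∑ k, Φ (Pi.single k (v k))).baseChange R' = bc (∑ k, Φ (Pi.single k (v k))) from rfl, map_sum]
    refine Finset.sum_congr rfl fun k _ => ?_
    simp [f, bc]
  have hsurj : ∀ v' : Fin n → R' ⊗[R] M, ∃ (v : Fin n → M) (s : S), (fun k => f (v k)) = (s : R) • v' :=
    fun v' => by
      obtain ⟨s, hs⟩ := IsLocalizedModule.exist_integer_multiples_of_finite S f v'
      choose v hv using hs
      exact ⟨v, s, funext hv⟩
  have hu : ∀ s : S, IsUnit (algebraMap R R' s) := IsLocalization.map_units R'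
  refine ⟨Ψ, fun i => ⟨fun G => ?_, fun v' hv' => ?_⟩⟩
  · obtain ⟨N, F, s, hF⟩ := (awayBij_endLocalize S R' (hfree i)).1 G
    obtain ⟨p, v, hv⟩ := (hΦ i).surj F
    obtain ⟨t, ht⟩ := hu s
    refine ⟨p + N, (↑t⁻¹ : R') • fun k => f (v k), ?_⟩
    rw [map_smul, hΨ, hv, LinearMap.baseChange_smul, hF, ← algebraMap_smul R' (g i ^ p),
      ← algebraMap_smul R' (s : R), ← algebraMap_smul R' (g i ^ N), ← ht, map_pow, map_pow, smul_smul,
      smul_smul, smul_smul, pow_add]
    congr 1
    rw [show (↑t⁻¹ : R') * algebraMap R R' (g i) ^ p * (t : R') * algebraMap R R' (g i) ^ N =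
      (↑t⁻¹ * ↑t) * (algebraMap R R' (g i) ^ p * algebraMap R R' (g i) ^ N) by ring, Units.inv_mul, one_mul]
  · obtain ⟨v, s, hv⟩ := hsurj v'
    have h0 : (Φ v).baseChange R' = 0 := by
      rw [← hΨ, hv, ← algebraMap_smul R' (s : R), map_smul, hv', smul_zero]
    obtain ⟨N, u, huz⟩ := (awayBij_endLocalize S R' (hfree i)).2 (Φ v) h0
    obtain ⟨p, hp⟩ := (hΦ i).ker ((u : R) • g i ^ N • v) (by rw [map_smul, map_smul, huz])
    refine ⟨p + N, ?_⟩
    have : ((u : R) * s) • g i ^ (p + N) • v' = 0 := by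
      rw [smul_comm, mul_smul, ← hv]
      funext k
      have := congrArg (fun w => f (w k)) hp
      simp only [Pi.smul_apply, map_smul, Pi.zero_apply, map_zero] at this ⊢
      rw [← this, pow_add, mul_smul, smul_comm (g i ^ N) (u : R)]
    rw [← map_pow, algebraMap_smul]
    have hus := hu (u * s)
    rw [← algebraMap_smul R'] at this
    exact hus.smul_eq_zero.1 this

end Localization

end Groth.Agent.NonAbLib.Extend
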