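import Groth.Agent.NonAbLib.Extend.Three

/-!
# Freeness over regular local rings

A finite module over a regular local ring of dimension at least two which is determined by its
restriction to the punctured spectrum, is free there, and whose endomorphisms form a power of the
module, is free.
-/

set_option autoImplicit false

universe u

open TensorProduct IsLocalRing Groth.Agent.RegLoc6

noncomputable section

namespace Groth.Agent.NonAbLib.Extend

variable {A : Type u} [CommRing A] {M : Type u} [AddCommGroup M] [Module A M]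

theorem gloc_self_maximal [IsRegularLocalRing A] (h2 : 2 ≤ (maximalIdeal A).spanFinrank) {κ : Type*}
    (G : κ → A) (hG : Ideal.span (Set.range G) = maximalIdeal A) : GLoc G A :=
  gloc_self G fun p hp hall => by
    have hle : maximalIdeal A ≤ p := hG ▸ Ideal.span_le.2 (by rintro _ ⟨i, rfl⟩; exact hall i)
    obtain rfl := (IsLocalRing.maximalIdeal.isMaximal A).eq_of_le hp.ne_top hle
    have h := IsLocalRing.maximalIdeal_height_eq_ringKrullDim (R := A)
    rw [← (isRegularLocalRing_iff A).1 ‹_›] at h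
    have h' : (maximalIdeal A).height = ((maximalIdeal A).spanFinrank : ℕ∞) := by exact_mod_cast h
    rw [h']
    exact_mod_cast h2

/-- The bidual of the endomorphisms. -/
def endBidual (M : Type u) [AddCommGroup M] [Module A M] :
    Module.End A M →ₗ[A] Module.End A (Module.Dual A (Module.Dual A M)) :=
  (Module.Dual.transpose (R := A)).comp (Module.Dual.transpose (R := A))

theorem awayBij_endBidual {a : A} (h : FreeAway M a) : AwayBij a (endBidual M) := by
  classical
  obtain ⟨N, r, φ, ψ, h⟩ := h
  have hN : FreeAway M a := ⟨N, r, φ, ψ, h⟩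
  let c := Module.Dual.eval A M
  let w : Module.Dual A (Module.Dual A M) →ₗ[A] (Fin r → A) :=
    LinearMap.pi fun k => LinearMap.applyₗ ((LinearMap.proj k).comp φ)
  have hdec : ∀ ξ, c (ψ (w ξ)) = a ^ N • ξ := fun ξ => LinearMap.ext fun f => by
    have hf : a ^ N • f = ∑ k, f (ψ (Pi.single k 1)) • (LinearMap.proj k).comp φ := by
      refine LinearMap.ext fun m => ?_
      rw [LinearMap.smul_apply, ← map_smul, ← h, pi_eq_sum_univ' (φ m), map_sum, map_sum, LinearMap.sum_apply]
      refine Finset.sum_congr rfl fun k _ => ?_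
      rw [map_smul, map_smul, LinearMap.smul_apply, smul_eq_mul, smul_eq_mul, mul_comm]
      rfl
    rw [Module.Dual.eval_apply, LinearMap.smul_apply, ← map_smul, hf, map_sum, pi_eq_sum_univ' (w ξ), map_sum,
      map_sum]
    refine Finset.sum_congr rfl fun k _ => ?_
    rw [map_smul, map_smul, map_smul, smul_eq_mul, smul_eq_mul, mul_comm]
    rfl
  refine ⟨fun G => ⟨N + N, a ^ N • ψ.comp (w.comp (G.comp c)), LinearMap.ext fun ξ => ?_⟩,
    fun F hF => ⟨N, LinearMap.ext fun m => ?_⟩⟩
  · let F := ψ.comp (w.comp (G.comp c))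
    have hnat : ∀ m, endBidual M F (c m) = a ^ N • G (c m) := fun m => (hdec (G (c m))).symm ▸ rfl
    rw [map_smul, LinearMap.smul_apply, ← map_smul, ← hdec ξ]
    show endBidual M F (c (ψ (w ξ))) = _
    rw [hnat, hdec, map_smul, ← mul_smul, ← pow_add, LinearMap.smul_apply]
  · rw [LinearMap.smul_apply, LinearMap.zero_apply, ← h,
      show φ (F m) = 0 from funext fun k => by
        have := LinearMap.congr_fun (LinearMap.congr_fun hF (c m)) ((LinearMap.proj k).comp φ)
        exact this,
      map_zero]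

/-- Endomorphisms restrict to a hypersurface. -/
theorem exists_endQuot [IsDomain A] {x : A} (hx0 : x ≠ 0)
    (htf : ∀ (c : A) (m : M), c ≠ 0 → c • m = 0 → m = 0) {n : ℕ} (e : (Fin n → M) ≃ₗ[A] Module.End A M) :
    ∃ Ψ : (Fin n → (A ⧸ Ideal.span {x}) ⊗[A] M) →ₗ[A ⧸ Ideal.span {x}]
        Module.End (A ⧸ Ideal.span {x}) ((A ⧸ Ideal.span {x}) ⊗[A] M),
      ∀ a, FreeAway M a → AwayBij (Ideal.Quotient.mk (Ideal.span {x}) a) Ψ := by
  classical
  let Q := A ⧸ Ideal.span {x}
  let bc : Module.End A M →ₗ[A] Module.End Q (Q ⊗[A] M) := LinearMap.baseChangeHom A Q M M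
  let Ψ : (Fin n → Q ⊗[A] M) →ₗ[Q] Module.End Q (Q ⊗[A] M) :=
    ∑ k, (LinearMap.liftBaseChange Q (bc.comp (e.toLinearMap.comp (LinearMap.single A (fun _ => M) k)))).comp
      (LinearMap.proj k)
  have hΨ : ∀ v : Fin n → M, Ψ (fun k => (1 : Q) ⊗ₜ[A] v k) = (e v).baseChange Q := fun v => by
    simp only [Ψ, LinearMap.sum_apply, LinearMap.comp_apply, LinearMap.proj_apply]
    conv_rhs => rw [← Finset.univ_sum_single v, map_sum]
    rw [show (∑ k, e (Pi.single k (v k))).baseChange Q = bc (∑ k, e (Pi.single k (v k))) from rfl, map_sum]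
    refine Finset.sum_congr rfl fun k _ => ?_
    simp [bc]
  have hsurj : Function.Surjective (TensorProduct.mk A Q M 1) :=
    TensorProduct.mk_surjective A M Q Ideal.Quotient.mk_surjective
  have hker : ∀ m : M, (1 : Q) ⊗ₜ[A] m = 0 → ∃ m', x • m' = m := fun m hm => by
    have h2 : Submodule.Quotient.mk m = (0 : M ⧸ (Ideal.span {x} • (⊤ : Submodule A M))) := by
      rw [← map_zero (TensorProduct.quotTensorEquivQuotSMul M (Ideal.span {x})), ← hm]
      exact (by simp : TensorProduct.quotTensorEquivQuotSMul M (Ideal.span {x})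
        ((1 : Q) ⊗ₜ[A] m) = _).symm
    rw [Submodule.Quotient.mk_eq_zero, Submodule.ideal_span_singleton_smul] at h2
    obtain ⟨m', -, hm'⟩ := h2
    exact ⟨m', hm'⟩
  refine ⟨Ψ, fun a ⟨N, r, φ, ψ, hψ⟩ => ⟨fun G => ?_, fun v' hv' => ⟨0, ?_⟩⟩⟩
  · obtain ⟨l, hl⟩ := Module.projective_lifting_property (TensorProduct.mk A Q M 1)
      ((G.restrictScalars A).comp ((TensorProduct.mk A Q M 1).comp ψ)) hsurj
    refine ⟨N, fun k => (1 : Q) ⊗ₜ[A] e.symm (l.comp φ) k, ?_⟩
    rw [hΨ, e.apply_symm_apply]
    refine TensorProduct.AlgebraTensorModule.ext fun q m => ?_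
    rw [LinearMap.baseChange_tmul, LinearMap.comp_apply, LinearMap.smul_apply,
      show q ⊗ₜ[A] l (φ m) = q • (TensorProduct.mk A Q M 1 (l (φ m))) by simp [TensorProduct.smul_tmul'],
      ← LinearMap.comp_apply (TensorProduct.mk A Q M 1) l, hl, LinearMap.comp_apply, LinearMap.comp_apply,
      hψ, map_smul, LinearMap.restrictScalars_apply, LinearMap.map_smul_of_tower,
      show q ⊗ₜ[A] m = q • (TensorProduct.mk A Q M 1 m) by simp [TensorProduct.smul_tmul'], map_smul,
      ← map_pow, ← Ideal.Quotient.algebraMap_eq, algebraMap_smul, smul_comm]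
  · rw [pow_zero, one_smul]
    choose v hv using fun k => hsurj (v' k)
    have hv'' : (fun k => (1 : Q) ⊗ₜ[A] v k) = v' := funext hv
    have h0 : (e v).baseChange Q = 0 := by rw [← hΨ, hv'', hv']
    choose F hF using fun m : M => hker (e v m) (LinearMap.congr_fun h0 ((1 : Q) ⊗ₜ[A] m))
    let FF : Module.End A M :=
      { toFun := F
        map_add' := fun p q => sub_eq_zero.1 <| htf x _ hx0 <| by
          rw [smul_sub, smul_add, hF, hF, hF, map_add, sub_self]
        map_smul' := fun c p => sub_eq_zero.1 <| htf x _ hx0 <| by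
          rw [smul_sub, RingHom.id_apply, smul_comm, hF, hF, map_smul, sub_self] }
    have he : e v = x • FF := LinearMap.ext fun m => (hF m).symm
    have : v = x • e.symm FF := by rw [← map_smul, ← he, e.symm_apply_apply]
    rw [← hv'', this]
    funext k
    show (1 : Q) ⊗ₜ[A] (x • e.symm FF k) = 0
    rw [← TensorProduct.smul_tmul, Algebra.smul_def, Ideal.Quotient.algebraMap_eq,
      Ideal.Quotient.eq_zero_iff_mem.2 (Ideal.mem_span_singleton_self x), zero_mul, TensorProduct.zero_tmul]

variable [IsRegularLocalRing A] [Module.Finite A M]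

/-- The hypersurface step in dimension at least four. -/
theorem surjective_of_free_quot (j : ℕ) (hj : 2 ≤ j) (hd : ringKrullDim A = (j + 2 : ℕ))
    (hfree : ∀ a ∈ maximalIdeal A, FreeAway M a) (hpd : PdLE A j M)
    {x : A} (hxm : x ∈ maximalIdeal A) (hx : ∀ m : M, x • m = 0 → m = 0)
    {N : Type u} [AddCommGroup N] [Module A N] [Module.Finite A N] (hN : PdLE A 1 N) (c : M →ₗ[A] N)
    (hc : ∀ m, c m = 0 ↔ ∃ m', x • m' = m)
    (hcok : ∀ a ∈ maximalIdeal A, ∀ y, ∃ p : ℕ, a ^ p • y ∈ LinearMap.range c) : Function.Surjective c := by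
  rw [← LinearMap.range_eq_top, ← Submodule.Quotient.subsingleton_iff]
  let C := N ⧸ LinearMap.range c
  have hC : ∀ a ∈ maximalIdeal A, ∀ y : C, ∃ p : ℕ, a ^ p • y = 0 := fun a ha y => by
    obtain ⟨y, rfl⟩ := (LinearMap.range c).mkQ_surjective y
    obtain ⟨p, hp⟩ := hcok a ha y
    exact ⟨p, by rw [← map_smul]; exact (Submodule.Quotient.mk_eq_zero _).2 hp⟩
  obtain ⟨δ, -, h1c, h1b⟩ := ext_sequence (x • (LinearMap.id : M →ₗ[A] M)) c.rangeRestrict
    ((injective_iff_map_eq_zero _).2 fun m hm => hx m hm) c.surjective_rangeRestrict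
    fun m => ⟨fun hm => (hc m).1 (congrArg Subtype.val hm), fun ⟨m', hm'⟩ => Subtype.ext ((hc m).2 ⟨m', hm'⟩)⟩
  obtain ⟨δ', h2a, h2c, -⟩ := ext_sequence (LinearMap.range c).subtype (LinearMap.range c).mkQ
    Subtype.val_injective (Submodule.mkQ_surjective _) (LinearMap.exact_subtype_mkQ _)
  by_contra hne
  rw [not_subsingleton_iff_nontrivial] at hne
  obtain ⟨z, hz⟩ := exists_ext_ne_zero hd (by omega) hC
  obtain ⟨y, rfl⟩ := (h2c (j + 1) z).1
    (@Subsingleton.elim _ (subsingleton_ext_of_pdLE hN (by omega)) _ _)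
  have hrange : Subsingleton (ExtA A (LinearMap.range c) j) := subsingleton_of_forall_eq 0 fun u => by
    obtain ⟨w, rfl⟩ := (h2a j u).1 (@Subsingleton.elim _ (subsingleton_ext_finLen hd hC (by omega)) _ _)
    rw [@Subsingleton.elim _ (subsingleton_ext_of_pdLE hN (by omega)) w 0, map_zero]
  have hinj : ∀ e : ExtA A M j, x • e = 0 → e = 0 := fun e he => by
    obtain ⟨w, rfl⟩ := (h1b j e).1 (by rw [extMap_smul, extMap_id, he])
    rw [@Subsingleton.elim _ hrange w 0, map_zero]
  have hE : ∀ e : ExtA A M j, e = 0 := by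
    obtain ⟨j', rfl⟩ : ∃ j', j = j' + 1 := ⟨j - 1, by omega⟩
    obtain ⟨K, hK⟩ := exists_pow_smul_ext (hfree x hxm) j'
    intro e
    revert hK
    induction K generalizing e with
    | zero => intro hK; simpa using hK e
    | succ K ih =>
      intro hK
      exact ih e fun e' => hinj _ (by rw [← mul_smul, ← pow_succ', hK])
  obtain ⟨w, rfl⟩ := (h1c j y).1 (@Subsingleton.elim _ (subsingleton_ext_of_pdLE hpd (by omega)) _ _)
  exact hz (by rw [hE w, map_zero, map_zero])

omit [Module.Finite A M] in
/-- Multiples of a regular element are detected away from the closed point. -/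
theorem exists_smul_eq_of_pow {κ : Type*} [Finite κ] {G : κ → A} (hM : GLoc G M) {x : A}
    (hx : ∀ m : M, x • m = 0 → m = 0) {m : M} (h : ∀ k, ∃ (p : ℕ) (y : M), x • y = G k ^ p • m) :
    ∃ y, x • y = m := by
  choose p y hy using h
  obtain ⟨z, hz⟩ := hM.glue' p y fun i j => sub_eq_zero.1 <| hx _ <| by
    rw [smul_sub, smul_comm, hy, smul_comm x, hy, smul_comm, sub_self]
  exact ⟨z, hM.ext fun k => ⟨p k, by rw [smul_comm, hz, hy]⟩⟩

/-- Freeness from the endomorphisms. -/
theorem free_of_end {d : ℕ} : ∀ (A : Type u) [CommRing A] [IsRegularLocalRing A],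
    (maximalIdeal A).spanFinrank = d → 2 ≤ d → ∀ {κ : Type u} [Finite κ] (G : κ → A),
    Ideal.span (Set.range G) = maximalIdeal A → ∀ (M : Type u) [AddCommGroup M] [Module A M] [Module.Finite A M],
    (∀ a ∈ maximalIdeal A, FreeAway M a) → GLoc G M → ∀ {n : ℕ}, ((Fin n → M) ≃ₗ[A] Module.End A M) →
    Module.Free A M := by
  induction d using Nat.strong_induction_on with
  | _ d ih =>
    intro A _ _ hd h2 κ _ G hG M _ _ _ hfree hM n e
    haveI := isDomain_of_isRegularLocalRing A
    haveI hfr : ∀ k, Module.Free A (Fin k → A) := fun k => Module.Free.of_basis (Pi.basisFun A (Fin k))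
    haveI hpr : ∀ k, Module.Projective A (Fin k → A) := fun k => Module.Projective.of_basis (Pi.basisFun A (Fin k))
    have hGm : ∀ k, G k ∈ maximalIdeal A := fun k => hG ▸ Ideal.subset_span ⟨k, rfl⟩
    have hA := gloc_self_maximal (hd ▸ h2) G hG
    have htf : ∀ (c : A) (m : M), c ≠ 0 → c • m = 0 → m = 0 := fun c m hc hm =>
      hM.eq_zero_of_smul (fun k => hfree _ (hGm k)) hc hm
    haveI := finite_dual (A := A) (M := M)
    let eDD : M ≃ₗ[A] Module.Dual A (Module.Dual A M) :=
      LinearEquiv.ofBijective _ (bijective_of_awayBij hM (hA.hom) fun k => awayBij_eval (hfree _ (hGm k)))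
    by_cases hd2 : d ≤ 2
    · haveI := Pi1Ext.RegPurity.free_dual_of_spanFinrank_le_two (A := A) (by omega) (Module.Dual A M)
      exact Module.Free.of_equiv eDD.symm
    have hdim : ringKrullDim A = (d : ℕ) := by rw [← (isRegularLocalRing_iff A).1 ‹_›, hd]
    have hpd : PdLE A (d - 2) M :=
      pdLE_of_equiv eDD.symm (pdLE_dual (d := d - 2) (by omega) (Module.Dual A M))
    by_cases hd3 : d = 3
    · subst hd3
      exact free_three hdim htf hfree hpd e
    -- hypersurface
    obtain ⟨x, hxm, hx2⟩ := SetLike.not_le_iff_exists.1 (maximalIdeal_sq_ne (R := A) fun hf => by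
      rw [IsLocalRing.isField_iff_maximalIdeal_eq.1 hf, Submodule.spanFinrank_bot] at hd
      omega)
    have hx0 : x ≠ 0 := fun h => hx2 (h ▸ zero_mem _)
    obtain ⟨hQ, hQd⟩ := isRegularLocalRing_quot_and hxm hx2
    haveI := hQ
    let Q := A ⧸ Ideal.span {x}
    have hdQ : (maximalIdeal Q).spanFinrank + 1 = d := by
      rw [← (isRegularLocalRing_iff A).1 ‹_›, ← (isRegularLocalRing_iff Q).1 hQ, hd] at hQd
      exact_mod_cast hQd
    have hG' : Ideal.span (Set.range fun k => Ideal.Quotient.mk (Ideal.span {x}) (G k)) = maximalIdeal Q := by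
      rw [← map_maximalIdeal_quot, ← hG, Ideal.map_span, ← Set.range_comp]
      rfl
    let Mb := Q ⊗[A] M
    let N := Module.Dual Q (Module.Dual Q Mb)
    haveI : Module.Finite Q (Module.Dual Q Mb) := finite_dual
    haveI : Module.Finite Q N := finite_dual
    have hQfree : ∀ a ∈ maximalIdeal Q, FreeAway Mb a := fun a ha => by
      obtain ⟨a, rfl⟩ := Ideal.Quotient.mk_surjective a
      refine (hfree a ?_).baseChange Q
      by_contra hu
      exact (IsLocalRing.maximalIdeal.isMaximal Q).ne_top
        (Ideal.eq_top_of_isUnit_mem _ ha ((IsLocalRing.notMem_maximalIdeal.1 hu).map _))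
    have hQloc : GLoc (fun k => Ideal.Quotient.mk (Ideal.span {x}) (G k)) Q :=
      gloc_self_maximal (show 2 ≤ (maximalIdeal Q).spanFinrank by omega) _ hG'
    have hNloc : GLoc (fun k => Ideal.Quotient.mk (Ideal.span {x}) (G k)) N := hQloc.hom
    have hGQ : ∀ k, Ideal.Quotient.mk (Ideal.span {x}) (G k) ∈ maximalIdeal Q := fun k =>
      hG' ▸ Ideal.subset_span ⟨k, rfl⟩
    obtain ⟨Ψ, hΨ⟩ := exists_endQuot hx0 htf e
    obtain ⟨eN⟩ := nonempty_equiv_of_awayBij (hNloc.pi (κ := Fin n)) hNloc.hom
      (c := (Module.Dual.eval Q Mb).compLeft (Fin n)) (c' := (endBidual Mb).comp Ψ)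
      (fun k => (awayBij_eval (hQfree _ (hGQ k))).pi (Fin n))
      fun k => by
        exact AwayBij.comp (awayBij_endBidual (hQfree _ (hGQ k))) (hΨ _ (hfree _ (hGm k)))
    haveI : Module.Free Q N := ih _ (by omega) Q rfl (by omega) _ hG' N
      (fun a ha => freeAway_bidual (hQfree a ha)) hNloc eN
    let bN := Module.finBasis Q N
    let r := Module.finrank Q N
    let c : M →ₗ[A] N := ((Module.Dual.eval Q Mb).restrictScalars A).comp (TensorProduct.mk A Q M 1)
    have hsur : Function.Surjective (TensorProduct.mk A Q M 1) :=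
      TensorProduct.mk_surjective A M Q Ideal.Quotient.mk_surjective
    have hker : ∀ m : M, (1 : Q) ⊗ₜ[A] m = 0 ↔ ∃ m', x • m' = m := fun m => by
      refine ⟨fun hm => ?_, fun ⟨m', hm'⟩ => ?_⟩
      · have h2 : Submodule.Quotient.mk m = (0 : M ⧸ (Ideal.span {x} • (⊤ : Submodule A M))) := by
          rw [← map_zero (TensorProduct.quotTensorEquivQuotSMul M (Ideal.span {x})), ← hm]
          exact (by simp : TensorProduct.quotTensorEquivQuotSMul M (Ideal.span {x})
            ((1 : Q) ⊗ₜ[A] m) = _).symm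
        rw [Submodule.Quotient.mk_eq_zero, Submodule.ideal_span_singleton_smul] at h2
        obtain ⟨m', -, hm'⟩ := h2
        exact ⟨m', hm'⟩
      · rw [← hm', ← TensorProduct.smul_tmul, Algebra.smul_def, Ideal.Quotient.algebraMap_eq,
          Ideal.Quotient.eq_zero_iff_mem.2 (Ideal.mem_span_singleton_self x), zero_mul, TensorProduct.zero_tmul]
    have hc : ∀ m, c m = 0 ↔ ∃ m', x • m' = m := fun m => by
      refine ⟨fun hm => exists_smul_eq_of_pow hM (fun z hz => htf x z hx0 hz) fun k => ?_, fun hm => ?_⟩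
      · obtain ⟨p, hp⟩ := (awayBij_eval (hQfree _ (hGQ k))).ker ((1 : Q) ⊗ₜ[A] m) hm
        refine ⟨p, (hker (G k ^ p • m)).1 ?_⟩
        rw [TensorProduct.tmul_smul, ← algebraMap_smul Q, map_pow, Ideal.Quotient.algebraMap_eq]
        exact hp
      · show Module.Dual.eval Q Mb ((1 : Q) ⊗ₜ[A] m) = 0
        rw [(hker m).2 hm, map_zero]
    haveI : Module.Finite A N := Module.Finite.trans Q N
    have hNpd : PdLE A 1 N := by
      let p : (Fin r → A) →ₗ[A] N :=
        (bN.equivFun.symm.toLinearMap.restrictScalars A).comp ((Algebra.linearMap A Q).compLeft (Fin r))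
      have hp : Function.Surjective p := bN.equivFun.symm.surjective.comp
        fun v => ⟨fun i => (Ideal.Quotient.mk_surjective (v i)).choose,
          funext fun i => (Ideal.Quotient.mk_surjective (v i)).choose_spec⟩
      refine (pdLE_succ_iff p hp).2 (pdLE_zero_iff.2 ?_)
      let μ : (Fin r → A) →ₗ[A] (Fin r → A) := x • LinearMap.id
      have hμ : LinearMap.range μ = LinearMap.ker p := by
        ext v
        refine ⟨?_, fun hv => ?_⟩
        · rintro ⟨w, rfl⟩
          show bN.equivFun.symm _ = 0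
          rw [show (Algebra.linearMap A Q).compLeft (Fin r) (μ w) = 0 from funext fun i => by
            show Ideal.Quotient.mk _ (x * w i) = 0
            exact Ideal.Quotient.eq_zero_iff_mem.2 (Ideal.mem_span_singleton'.2 ⟨w i, mul_comm _ _⟩), map_zero]
        · have h0 : (Algebra.linearMap A Q).compLeft (Fin r) v = 0 :=
            bN.equivFun.symm.injective (hv.trans (map_zero bN.equivFun.symm).symm)
          choose w hw using fun i => Ideal.mem_span_singleton'.1 (Ideal.Quotient.eq_zero_iff_mem.1 (congrFun h0 i))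
          exact ⟨w, funext fun i => (mul_comm x (w i)).trans (hw i)⟩
      exact Module.Projective.of_equiv ((LinearEquiv.ofInjective μ fun v w h => funext fun i =>
        mul_left_cancel₀ hx0 (congrFun h i)).trans (LinearEquiv.ofEq _ _ hμ))
    have hcsur : Function.Surjective c := surjective_of_free_quot (d - 2) (by omega)
      (by rw [hdim]; congr 1; omega) hfree hpd hxm (fun z hz => htf x z hx0 hz) hNpd c hc fun a ha y => by
        have haQ : Ideal.Quotient.mk (Ideal.span {x}) a ∈ maximalIdeal Q := by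
          rw [← map_maximalIdeal_quot]
          exact Ideal.mem_map_of_mem _ ha
        obtain ⟨p, z, hz⟩ := (awayBij_eval (hQfree _ haQ)).surj y
        obtain ⟨z, rfl⟩ := hsur z
        refine ⟨p, z, ?_⟩
        show Module.Dual.eval Q Mb _ = a ^ p • y
        rw [← algebraMap_smul Q (a ^ p), map_pow, Ideal.Quotient.algebraMap_eq]
        exact hz
    -- lift a basis
    choose s hs using fun i => hcsur (bN i)
    let f : (Fin r → A) →ₗ[A] M := Fintype.linearCombination A s
    have hcf : ∀ v, c (f v) = bN.equivFun.symm fun i => algebraMap A Q (v i) := fun v => by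
      rw [Fintype.linearCombination_apply, map_sum, Module.Basis.equivFun_symm_apply]
      refine Finset.sum_congr rfl fun i _ => ?_
      rw [map_smul, hs, algebraMap_smul]
    have hfsur : Function.Surjective f := by
      rw [← LinearMap.range_eq_top]
      refine top_le_iff.1 (Submodule.le_of_le_smul_of_le_jacobson_bot Module.Finite.fg_top
        (IsLocalRing.maximalIdeal_le_jacobson _) fun m _ => ?_)
      choose v hv using fun i => Ideal.Quotient.mk_surjective (bN.equivFun (c m) i)
      obtain ⟨m', hm'⟩ := (hc (m - f v)).1 <| by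
        rw [map_sub, hcf, sub_eq_zero, eq_comm, LinearEquiv.symm_apply_eq]
        exact funext hv
      rw [show m = f v + x • m' by rw [hm']; abel]
      exact Submodule.add_mem_sup ⟨v, rfl⟩ (Submodule.smul_mem_smul hxm trivial)
    have hfinj : Function.Injective f := by
      rw [← LinearMap.ker_eq_bot]
      refine Submodule.eq_bot_of_le_smul_of_le_jacobson_bot (maximalIdeal A) _ (IsNoetherian.noetherian _)
        (fun v hv => ?_) (IsLocalRing.maximalIdeal_le_jacobson _)
      have h0 : (fun i => algebraMap A Q (v i)) = 0 := bN.equivFun.symm.injective <| by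
        rw [← hcf, show f v = 0 from hv, map_zero, map_zero]
      choose w hw using fun i => Ideal.mem_span_singleton'.1 (Ideal.Quotient.eq_zero_iff_mem.1 (congrFun h0 i))
      have hvw : v = x • w := funext fun i => (hw i).symm.trans (mul_comm _ _)
      rw [hvw]
      exact Submodule.smul_mem_smul hxm (htf x _ hx0 (by rw [← map_smul, ← hvw]; exact hv))
    exact Module.Free.of_equiv (LinearEquiv.ofBijective f ⟨hfinj, hfsur⟩)

end Groth.Agent.NonAbLib.Extend
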