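import Groth.Agent.NonAbLib.Extend.Regular
import Groth.Agent.LC.PdRegular
import Groth.Agent.S10834
import Groth.Agent.CycLib.FinLen
import Groth.Agent.Pi1Ext.DualFree

/-!
# `Ext` into a regular local ring: finite length modules, projective dimension of duals
-/

set_option autoImplicit false

universe u

open TensorProduct IsLocalRing CategoryTheory Groth.Agent.RegLoc6

noncomputable section

namespace Groth.Agent.NonAbLib.Extend

variable {A : Type u} [CommRing A]

/-- `Ext^i(M, A)`. -/
abbrev ExtA (A : Type u) [CommRing A] (M : Type u) [AddCommGroup M] [Module A M] (i : ℕ) : Type u :=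
  Abelian.Ext (ModuleCat.of A M) (ModuleCat.of A A) i

section Pullback

variable {M N P : Type u} [AddCommGroup M] [Module A M] [AddCommGroup N] [Module A N] [AddCommGroup P]
  [Module A P]

/-- Pullback on `Ext(-, A)`. -/
def extMap (f : M →ₗ[A] N) (i : ℕ) : ExtA A N i →ₗ[A] ExtA A M i where
  toFun e := (Abelian.Ext.mk₀ (ModuleCat.ofHom f)).comp e (zero_add i)
  map_add' e e' := Abelian.Ext.comp_add ..
  map_smul' c e := Abelian.Ext.comp_smul ..

theorem extMap_comp (g : N →ₗ[A] P) (f : M →ₗ[A] N) (i : ℕ) (e : ExtA A P i) :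
    extMap (g.comp f) i e = extMap f i (extMap g i e) :=
  (Abelian.Ext.mk₀_comp_mk₀_assoc (ModuleCat.ofHom f) (ModuleCat.ofHom g) e).symm

theorem extMap_id (i : ℕ) (e : ExtA A M i) : extMap LinearMap.id i e = e :=
  Abelian.Ext.mk₀_id_comp e

theorem extMap_zero (i : ℕ) (e : ExtA A N i) : extMap (0 : M →ₗ[A] N) i e = 0 := by
  show (Abelian.Ext.mk₀ (ModuleCat.ofHom (0 : M →ₗ[A] N))).comp e (zero_add i) = 0
  rw [show ModuleCat.ofHom (0 : M →ₗ[A] N) = 0 from rfl, Abelian.Ext.mk₀_zero, Abelian.Ext.zero_comp]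

theorem extMap_add (f g : M →ₗ[A] N) (i : ℕ) (e : ExtA A N i) :
    extMap (f + g) i e = extMap f i e + extMap g i e := by
  show (Abelian.Ext.mk₀ (ModuleCat.ofHom (f + g))).comp e (zero_add i) = _
  rw [show ModuleCat.ofHom (f + g) = ModuleCat.ofHom f + ModuleCat.ofHom g from rfl, Abelian.Ext.mk₀_add,
    Abelian.Ext.add_comp]
  rfl

theorem extMap_smul (c : A) (f : M →ₗ[A] N) (i : ℕ) (e : ExtA A N i) :
    extMap (c • f) i e = c • extMap f i e := by
  show (Abelian.Ext.mk₀ (ModuleCat.ofHom (c • f))).comp e (zero_add i) = _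
  rw [show ModuleCat.ofHom (c • f) = c • ModuleCat.ofHom f from rfl, Abelian.Ext.mk₀_smul,
    Abelian.Ext.smul_comp]
  rfl

theorem extMap_sum {κ : Type*} (s : Finset κ) (f : κ → (M →ₗ[A] N)) (i : ℕ) (e : ExtA A N i) :
    extMap (∑ k ∈ s, f k) i e = ∑ k ∈ s, extMap (f k) i e := by
  classical
  induction s using Finset.induction_on with
  | empty => simp [extMap_zero]
  | insert k s hk ih => rw [Finset.sum_insert hk, extMap_add, ih, Finset.sum_insert hk]

/-- `Ext(-, A)` of a linear equivalence. -/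
def extEquiv (f : M ≃ₗ[A] N) (i : ℕ) : ExtA A N i ≃ₗ[A] ExtA A M i :=
  LinearEquiv.ofLinearMap (extMap f.toLinearMap i) (extMap f.symm.toLinearMap i)
    (LinearMap.ext fun e => by
      rw [LinearMap.comp_apply, ← extMap_comp, LinearEquiv.symm_comp, extMap_id, LinearMap.id_apply])
    (LinearMap.ext fun e => by
      rw [LinearMap.comp_apply, ← extMap_comp, LinearEquiv.comp_symm, extMap_id, LinearMap.id_apply])

/-- `Ext(-, A)` of a finite power. -/
def extPiEquiv (M : Type u) [AddCommGroup M] [Module A M] (k i : ℕ) :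
    ExtA A (Fin k → M) i ≃ₗ[A] (Fin k → ExtA A M i) :=
  LinearEquiv.ofLinearMap (LinearMap.pi fun j => extMap (LinearMap.single A (fun _ => M) j) i)
    (∑ j, (extMap (LinearMap.proj j) i).comp (LinearMap.proj j))
    (LinearMap.ext fun v => funext fun j => by
      rw [LinearMap.comp_apply, LinearMap.pi_apply, LinearMap.sum_apply, map_sum, LinearMap.id_apply,
        Finset.sum_eq_single j]
      · rw [LinearMap.comp_apply, ← extMap_comp, show (LinearMap.proj j).comp
          (LinearMap.single A (fun _ : Fin k => M) j) = LinearMap.id from LinearMap.ext fun m => by simp,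
          extMap_id]
        rfl
      · intro l _ hl
        rw [LinearMap.comp_apply, ← extMap_comp, show (LinearMap.proj l).comp
          (LinearMap.single A (fun _ : Fin k => M) j) = 0 from LinearMap.ext fun m => by simp [hl],
          extMap_zero]
      · simp)
    (LinearMap.ext fun e => by
      rw [LinearMap.comp_apply, LinearMap.sum_apply, LinearMap.id_apply]
      simp only [LinearMap.comp_apply, LinearMap.proj_apply, LinearMap.pi_apply, ← extMap_comp]
      rw [← extMap_sum, show (∑ j, (LinearMap.single A (fun _ : Fin k => M) j).comp (LinearMap.proj j)) =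
        LinearMap.id from LinearMap.ext fun v => by
          rw [LinearMap.sum_apply]; exact Finset.univ_sum_single v, extMap_id])

end Pullback

theorem subsingleton_ext_pi {M : Type u} [AddCommGroup M] [Module A M] (k i : ℕ)
    (h : Subsingleton (ExtA A M i)) : Subsingleton (ExtA A (Fin k → M) i) :=
  (extPiEquiv M k i).toEquiv.subsingleton

theorem eq_zero_ext_free (r i : ℕ) (e : ExtA A (Fin r → A) (i + 1)) : e = 0 := by
  haveI : Projective (ModuleCat.of A (Fin r → A)) := (IsProjective.iff_projective (R := A) (Fin r → A)).1 inferInstance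
  exact Abelian.Ext.eq_zero_of_projective e

/-- Positive degree `Ext` is killed where the module is free. -/
theorem exists_pow_smul_ext {M : Type u} [AddCommGroup M] [Module A M] {a : A} (h : FreeAway M a) (i : ℕ) :
    ∃ N : ℕ, ∀ e : ExtA A M (i + 1), a ^ N • e = 0 := by
  obtain ⟨N, r, φ, ψ, h⟩ := h
  refine ⟨N, fun e => ?_⟩
  rw [← extMap_id (i + 1) e, ← extMap_smul, show a ^ N • (LinearMap.id : M →ₗ[A] M) = ψ.comp φ from
    LinearMap.ext fun m => (h m).symm, extMap_comp, eq_zero_ext_free r i (extMap ψ (i + 1) e), map_zero]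

theorem subsingleton_ext_of_pdLE {M : Type u} [AddCommGroup M] [Module A M] {p : ℕ} (h : PdLE A p M)
    {i : ℕ} (hi : p < i) : Subsingleton (ExtA A M i) := by
  have : HasProjectiveDimensionLT (ModuleCat.of A M) (p + 1) := h
  exact HasProjectiveDimensionLT.subsingleton _ (p + 1) i (by omega) _

section Sequence

variable {M₁ M₂ M₃ : Type u} [AddCommGroup M₁] [Module A M₁] [AddCommGroup M₂] [Module A M₂] [AddCommGroup M₃]
  [Module A M₃] (f : M₁ →ₗ[A] M₂) (g : M₂ →ₗ[A] M₃)

/-- The long exact sequence of `Ext(-, A)` of a short exact sequence. -/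
theorem ext_sequence (hf : Function.Injective f) (hg : Function.Surjective g) (h : Function.Exact f g) :
    ∃ δ : ∀ i, ExtA A M₁ i →ₗ[A] ExtA A M₃ (i + 1),
      (∀ i (z : ExtA A M₁ i), δ i z = 0 ↔ ∃ w, extMap f i w = z) ∧
      (∀ i (e : ExtA A M₃ (i + 1)), extMap g (i + 1) e = 0 ↔ ∃ z, δ i z = e) ∧
      (∀ i (e : ExtA A M₂ i), extMap f i e = 0 ↔ ∃ w, extMap g i w = e) := by
  let S : ShortComplex (ModuleCat.{u} A) :=
    ShortComplex.mk (X₁ := ModuleCat.of A M₁) (X₂ := ModuleCat.of A M₂) (X₃ := ModuleCat.of A M₃)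
      (ModuleCat.ofHom f) (ModuleCat.ofHom g) (ModuleCat.hom_ext h.linearMap_comp_eq_zero)
  have hS : S.ShortExact :=
    { exact := (ShortComplex.ShortExact.moduleCat_exact_iff_function_exact _).2 h
      mono_f := (ModuleCat.mono_iff_injective _).2 hf
      epi_g := (ModuleCat.epi_iff_surjective _).2 hg }
  refine ⟨fun i => Abelian.Ext.precompOfLinear hS.extClass A (ModuleCat.of A A) (add_comm 1 i),
    fun i z => ⟨fun hz => Abelian.Ext.contravariant_sequence_exact₁ hS _ z (add_comm 1 i) hz, ?_⟩,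
    fun i e => ⟨fun he => Abelian.Ext.contravariant_sequence_exact₃ hS _ e he (add_comm 1 i), ?_⟩,
    fun i e => ⟨fun he => Abelian.Ext.contravariant_sequence_exact₂ hS _ e he, ?_⟩⟩
  · rintro ⟨w, rfl⟩
    exact ShortComplex.ShortExact.extClass_comp_assoc hS w (h := add_comm 1 i)
  · rintro ⟨z, rfl⟩
    exact ShortComplex.ShortExact.comp_extClass_assoc hS z (add_comm 1 i)
  · rintro ⟨w, rfl⟩
    rw [← extMap_comp, h.linearMap_comp_eq_zero, extMap_zero]

end Sequence

section Local

variable [IsRegularLocalRing A]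

theorem support_subset_closedPoint {C : Type u} [AddCommGroup C] [Module A C]
    (hC : ∀ a ∈ maximalIdeal A, ∀ c : C, ∃ n : ℕ, a ^ n • c = 0) :
    Module.support A C ⊆ {IsLocalRing.closedPoint A} := by
  intro p hp
  by_contra hne
  obtain ⟨a, ha, hap⟩ := SetLike.not_le_iff_exists.1 fun hle : maximalIdeal A ≤ p.asIdeal => hne
    (PrimeSpectrum.ext ((IsLocalRing.maximalIdeal.isMaximal A).eq_of_le p.isPrime.ne_top hle).symm)
  refine Module.notMem_support_iff'.2 (fun c => ?_) hp
  obtain ⟨n, hn⟩ := hC a ha c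
  exact ⟨a ^ n, fun h => hap (p.isPrime.mem_of_pow_mem n h), hn⟩

/-- `Ext^i(C, A) = 0` below the dimension for `C` of finite length. -/
theorem subsingleton_ext_finLen {d : ℕ} (hd : ringKrullDim A = d) {C : Type u} [AddCommGroup C] [Module A C]
    [Module.Finite A C] (hC : ∀ a ∈ maximalIdeal A, ∀ c : C, ∃ n : ℕ, a ^ n • c = 0) {i : ℕ} (hi : i < d) :
    Subsingleton (ExtA A C i) := by
  refine LC.subsingleton_ext_of_add_lt_depth A C 0 i ?_ ?_
  · haveI : Subsingleton (Module.support A C) := ⟨fun x y => Subtype.ext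
      ((support_subset_closedPoint hC x.2).trans (support_subset_closedPoint hC y.2).symm)⟩
    exact Order.krullDim_nonpos_of_subsingleton
  · have h := Groth.Agent.S10834.depth_of_regular A
    rw [hd] at h
    have h' : LocCoh.depth A A = (d : ℕ∞) := by exact_mod_cast h
    rw [h', Nat.cast_add, Nat.cast_zero, add_zero]
    exact_mod_cast hi

/-- `Ext^d(C, A) ≠ 0` for nonzero `C` of finite length. -/
theorem exists_ext_ne_zero {d : ℕ} (hd : ringKrullDim A = d) (h1 : 1 ≤ d) {C : Type u} [AddCommGroup C]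
    [Module A C] [Module.Finite A C] [Nontrivial C]
    (hC : ∀ a ∈ maximalIdeal A, ∀ c : C, ∃ n : ℕ, a ^ n • c = 0) :
    ∃ e : ExtA A C d, e ≠ 0 := by
  obtain ⟨P, hP, -⟩ := (eq_top_or_exists_le_coatom (⊥ : Submodule A C)).resolve_left bot_ne_top
  haveI : IsSimpleModule A (C ⧸ P) := isSimpleModule_iff_isCoatom.2 hP
  obtain ⟨I, hI, ⟨eI⟩⟩ := isSimpleModule_iff_quot_maximal.1 ‹IsSimpleModule A (C ⧸ P)›
  obtain rfl := IsLocalRing.eq_maximalIdeal hI
  let p : PrimeSpectrum A := IsLocalRing.closedPoint A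
  have hh : Order.height p = d := by
    have := IsLocalRing.maximalIdeal_height_eq_ringKrullDim (R := A)
    rw [hd] at this
    have h' : (maximalIdeal A).height = (d : ℕ∞) := by exact_mod_cast this
    rw [← h']
    exact (PrimeSpectrum.height_eq_orderHeight p).symm
  obtain ⟨e, he⟩ := LC.ext_height_ne_zero d p hh 1 ((Ideal.ne_top_iff_one _).1 p.isPrime.ne_top)
  rw [one_smul] at he
  let q : C →ₗ[A] A ⧸ maximalIdeal A := eI.toLinearMap.comp P.mkQ
  obtain ⟨δ, -, h3, -⟩ := ext_sequence (LinearMap.ker q).subtype q Subtype.val_injective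
    (eI.surjective.comp P.mkQ_surjective) (LinearMap.exact_subtype_ker_map q)
  refine ⟨extMap q d e, fun h0 => he ?_⟩
  obtain ⟨d, rfl⟩ : ∃ d', d = d' + 1 := ⟨d - 1, by omega⟩
  obtain ⟨z, rfl⟩ := (h3 d e).1 h0
  haveI := subsingleton_ext_finLen hd (C := LinearMap.ker q) (fun a ha c => by
    obtain ⟨n, hn⟩ := hC a ha c.1
    exact ⟨n, Subtype.ext hn⟩) (Nat.lt_succ_self d)
  exact (congrArg (δ d) (Subsingleton.elim z 0)).trans (map_zero _)

/-- Duals have small projective dimension. -/
theorem pdLE_dual {d : ℕ} (hd : (maximalIdeal A).spanFinrank ≤ d + 2) (X : Type u) [AddCommGroup X]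
    [Module A X] [Module.Finite A X] : PdLE A d (Module.Dual A X) := by
  obtain ⟨q, g, hg⟩ := Module.Finite.exists_fin' A X
  obtain ⟨p, ψ₀, hψ₀⟩ := Module.Finite.exists_fin' A (LinearMap.ker g)
  let ψ : (Fin p → A) →ₗ[A] (Fin q → A) := (LinearMap.ker g).subtype.comp ψ₀
  let δ : Module.Dual A (Fin q → A) →ₗ[A] Module.Dual A (Fin p → A) := ψ.dualMap
  let Q := Module.Dual A (Fin p → A) ⧸ LinearMap.range δ
  have hQ : PdLE A (d + 2) Q := pdLE_mono hd (pdLE_of_isRegularLocalRing A Q)
  have h1 : PdLE A (d + 1) (LinearMap.range δ) := by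
    have := (pdLE_succ_iff (LinearMap.range δ).mkQ (Submodule.mkQ_surjective _)).1 hQ
    exact pdLE_of_equiv (N := ↥(LinearMap.range δ)) (LinearEquiv.ofEq _ _ (Submodule.ker_mkQ _)) this
  have h0 : PdLE A d (LinearMap.ker δ) := by
    have := (pdLE_succ_iff δ.rangeRestrict δ.surjective_rangeRestrict).1 h1
    exact pdLE_of_equiv (N := ↥(LinearMap.ker δ)) (LinearEquiv.ofEq _ _ (LinearMap.ker_rangeRestrict δ)) this
  have hex : Function.Exact ψ g := by
    rw [LinearMap.exact_iff, LinearMap.range_comp, LinearMap.range_eq_top.2 hψ₀, Submodule.map_top,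
      Submodule.range_subtype]
  have hker : LinearMap.range g.dualMap = LinearMap.ker δ := by
    ext l
    refine ⟨?_, fun hl => ?_⟩
    · rintro ⟨m, rfl⟩
      exact LinearMap.ext fun a => by
        show m (g (ψ a)) = 0
        rw [hex.apply_apply_eq_zero, map_zero]
    · have hle : LinearMap.ker g ≤ LinearMap.ker l := fun y hy => by
        obtain ⟨a, rfl⟩ := (hex y).1 hy
        exact LinearMap.congr_fun hl a
      exact ⟨((LinearMap.ker g).liftQ l hle).comp (g.quotKerEquivOfSurjective hg).symm.toLinearMap,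
        LinearMap.ext fun y => by simp [LinearMap.dualMap_apply]⟩
  exact pdLE_of_equiv ((LinearEquiv.ofInjective g.dualMap (LinearMap.dualMap_injective_of_surjective hg)).trans
    (LinearEquiv.ofEq _ _ hker)).symm h0

end Local

end Groth.Agent.NonAbLib.Extend
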