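import Groth.Agent.NonAbLib.Extend.Core

/-!
# Extension across a closed subset with regular local rings of dimension at least two

If the local rings at the primes containing all `g i` are regular of dimension at least two, a
module determined by the opens of the `g i`, finite projective there, whose endomorphisms form
there a power of it, is finite projective.
-/

set_option autoImplicit false

universe u

open TensorProduct IsLocalRing

noncomputable section

namespace Groth.Agent.NonAbLib.Extend

variable {R : Type u} [CommRing R] {ι : Type u}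

/-- The local rings outside the opens of the `g i` are regular of dimension at least two. -/
def RegOutside (g : ι → R) : Prop :=
  ∀ (p : Ideal R) [p.IsPrime], (∀ i, g i ∈ p) →
    IsRegularLocalRing (Localization.AtPrime p) ∧ (2 : WithBot ℕ∞) ≤ ringKrullDim (Localization.AtPrime p)

theorem gloc_localization_self {g : ι → R} (h : RegOutside g) (p : Ideal R) [p.IsPrime] (hp : ∀ i, g i ∈ p) :
    GLoc (fun i => algebraMap R (Localization.AtPrime p) (g i)) (Localization.AtPrime p) := by
  haveI := (h p hp).1
  refine gloc_self _ fun q hq hall => ?_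
  haveI := hq
  have h2 := (h (q.comap (algebraMap R (Localization.AtPrime p))) fun i => hall i).2
  rw [IsLocalization.AtPrime.ringKrullDim_eq_height (q.comap (algebraMap R (Localization.AtPrime p))),
    IsLocalization.height_comap p.primeCompl q] at h2
  exact WithBot.coe_le_coe.1 h2

/-- Hartogs for the base. -/
theorem gloc_self_of_regOutside [Finite ι] {g : ι → R} (h : RegOutside g) : GLoc g R := by
  classical
  cases nonempty_fintype ι
  constructor
  · intro m hm
    refine Module.eq_zero_of_localization_maximal (fun P _ => Localization.AtPrime P)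
      (fun P _ => Algebra.linearMap R (Localization.AtPrime P)) m fun P _ => ?_
    by_cases hP : ∀ i, g i ∈ P
    · refine (gloc_localization_self h P hP).inj _ fun i => ?_
      obtain ⟨n, hn⟩ := hm i
      refine ⟨n, ?_⟩
      show algebraMap R _ (g i) ^ n • algebraMap R _ m = 0
      rw [smul_eq_mul, ← map_pow, ← map_mul, ← smul_eq_mul, hn, map_zero]
    · push Not at hP
      obtain ⟨i, hi⟩ := hP
      obtain ⟨n, hn⟩ := hm i
      exact (IsLocalization.map_eq_zero_iff P.primeCompl _ m).2
        ⟨⟨g i ^ n, fun hc => hi (Ideal.IsPrime.mem_of_pow_mem inferInstance n hc)⟩, hn⟩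
  · intro N m hm
    let J : Ideal R :=
      { carrier := {r | ∃ x, ∀ i, g i ^ N • x = r • m i}
        zero_mem' := ⟨0, fun i => by simp⟩
        add_mem' := fun {r s} ⟨x, hx⟩ ⟨y, hy⟩ => ⟨x + y, fun i => by rw [smul_add, hx, hy, add_smul]⟩
        smul_mem' := fun c r ⟨x, hx⟩ => ⟨c • x, fun i => by rw [smul_comm, hx, smul_eq_mul c r, mul_smul]⟩ }
    suffices hJ : (1 : R) ∈ J by
      obtain ⟨x, hx⟩ := hJ
      exact ⟨x, fun i => (hx i).trans (one_smul R _)⟩
    by_contra h1
    obtain ⟨P, hPmax, hJP⟩ := Ideal.exists_le_maximal J ((Ideal.ne_top_iff_one J).2 h1)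
    haveI := hPmax.isPrime
    by_cases hP : ∀ i, g i ∈ P
    · let A := Localization.AtPrime P
      obtain ⟨y, hy⟩ := (gloc_localization_self h P hP).glue N (fun i => algebraMap R A (m i)) fun i j => by
        rw [smul_eq_mul, smul_eq_mul, ← map_pow, ← map_pow, ← map_mul, ← map_mul]
        exact congrArg (algebraMap R A) (hm i j)
      obtain ⟨z, s, rfl⟩ := IsLocalization.exists_mk'_eq P.primeCompl y
      have : ∀ i, ∃ u : P.primeCompl, (u : R) * (g i ^ N * z) = u * (s * m i) := fun i => by
        refine (IsLocalization.eq_iff_exists P.primeCompl A).1 ?_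
        rw [map_mul, map_mul, map_pow, ← hy i, smul_eq_mul, mul_left_comm, IsLocalization.mk'_spec']
      choose u hu using this
      let U := ∏ i, u i
      have hUJ : (U : R) * s ∈ J := ⟨(U : R) * z, fun i => by
        show g i ^ N * ((U : R) * z) = U * s * m i
        rw [show U = (∏ j ∈ Finset.univ.erase i, u j) * u i from
          (Finset.prod_erase_mul Finset.univ u (Finset.mem_univ i)).symm, Submonoid.coe_mul]
        linear_combination (↑(∏ j ∈ Finset.univ.erase i, u j) : R) * hu i⟩
      exact (U * s).2 (hJP hUJ)
    · push Not at hP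
      obtain ⟨i, hi⟩ := hP
      exact hi (hPmax.isPrime.mem_of_pow_mem N (hJP ⟨m i, fun k => hm i k⟩))

variable {M : Type u} [AddCommGroup M] [Module R M]

/-- A basis at a prime spreads. -/
theorem exists_freeAway_of_iso_at [Finite ι] {g : ι → R} (hR : GLoc g R) (hM : GLoc g M)
    (hfree : ∀ i, FreeAway M (g i)) (p : Ideal R) [p.IsPrime] {n : ℕ} (b : (Fin n → R) →ₗ[R] M)
    (hsurj : ∀ y, ∃ u ∉ p, u • y ∈ LinearMap.range b) (hinj : ∀ c, b c = 0 → ∃ u ∉ p, u • c = 0) :
    ∃ f ∉ p, FreeAway M f := by
  classical
  cases nonempty_fintype ι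
  choose N r φ ψ hψ using hfree
  choose s hs z hz using fun (i : ι) (k : Fin (r i)) => hsurj (ψ i (Pi.single k 1))
  let u : ι → R := fun i => ∏ k, s i k
  let L : ∀ i, (Fin (r i) → R) →ₗ[R] (Fin n → R) := fun i =>
    Fintype.linearCombination R fun k => (∏ l ∈ Finset.univ.erase k, s i l) • z i k
  have hL : ∀ i w, b (L i w) = u i • ψ i w := fun i w => by
    have : b.comp (L i) = u i • ψ i := LinearMap.pi_ext' fun k => LinearMap.ext_ring (by
      show b (L i (Pi.single k 1)) = u i • ψ i (Pi.single k 1)
      rw [Fintype.linearCombination_apply, Finset.sum_eq_single k]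
      · rw [Pi.single_eq_same, one_smul, map_smul, hz, ← mul_smul,
          Finset.prod_erase_mul Finset.univ (s i) (Finset.mem_univ k)]
      · intro l _ hl
        rw [Pi.single_eq_of_ne hl, zero_smul]
      · simp)
    exact LinearMap.congr_fun this w
  choose t ht htz using fun (i : ι) (k : Fin n) =>
    hinj (L i (φ i (b (Pi.single k 1))) - (u i * g i ^ N i) • Pi.single k 1)
      (by rw [map_sub, hL, hψ, map_smul, mul_smul, sub_self])
  let v : ι → R := fun i => ∏ k, t i k
  have hkill : ∀ i c, b c = 0 → v i • u i • g i ^ N i • c = 0 := fun i c hc => by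
    have hlin : v i • ((L i).comp ((φ i).comp b) - (u i * g i ^ N i) • LinearMap.id) = 0 := by
      refine LinearMap.pi_ext' fun k => LinearMap.ext_ring ?_
      show v i • (L i (φ i (b (Pi.single k 1))) - (u i * g i ^ N i) • Pi.single k 1) = 0
      rw [show v i = (∏ l ∈ Finset.univ.erase k, t i l) * t i k from
        (Finset.prod_erase_mul Finset.univ (t i) (Finset.mem_univ k)).symm, mul_smul, htz, smul_zero]
    have h := LinearMap.congr_fun hlin c
    simp only [LinearMap.smul_apply, LinearMap.sub_apply, LinearMap.comp_apply, hc, map_zero,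
      LinearMap.id_apply, LinearMap.zero_apply, zero_sub, smul_neg, neg_eq_zero, mul_smul] at h
    exact h
  let U : R := ∏ i, v i * u i
  have hU : U ∉ p := fun h => by
    obtain ⟨i, -, hi⟩ := Ideal.IsPrime.prod_mem_iff.1 h
    rcases Ideal.IsPrime.mem_or_mem inferInstance hi with hi | hi
    · obtain ⟨k, -, hk⟩ := Ideal.IsPrime.prod_mem_iff.1 hi
      exact ht i k hk
    · obtain ⟨k, -, hk⟩ := Ideal.IsPrime.prod_mem_iff.1 hi
      exact hs i k hk
  have hUi : ∀ i, ∃ w, U = w * (v i * u i) := fun i =>
    ⟨_, (Finset.prod_erase_mul Finset.univ _ (Finset.mem_univ i)).symm⟩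
  have hker : ∀ c, b c = 0 → U • c = 0 := fun c hc => (hR.pi (κ := Fin n)).inj _ fun i => ⟨N i, by
    obtain ⟨w, hw⟩ := hUi i
    rw [smul_comm, hw, mul_smul, mul_smul, hkill i c hc, smul_zero]⟩
  have hsur : ∀ m, ∃ x, b x = (U * U) • m := fun m => by
    choose w hw using hUi
    let c : ι → (Fin n → R) := fun i => (w i * v i) • L i (φ i m)
    have hc : ∀ i, b (c i) = U • g i ^ N i • m := fun i => by
      rw [map_smul, hL, hψ, ← mul_smul, mul_assoc, ← hw]
    obtain ⟨x, hx⟩ := (hR.pi (κ := Fin n)).glue' N (fun i => U • c i) fun i j => by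
      rw [smul_comm, smul_comm (g i ^ N i), ← sub_eq_zero, ← smul_sub]
      refine hker _ ?_
      rw [map_sub, LinearMap.map_smul b (g j ^ N j) (c i), LinearMap.map_smul b (g i ^ N i) (c j), hc, hc,
        smul_comm (g j ^ N j), smul_comm (g i ^ N i) U,
        smul_comm (g j ^ N j), sub_self]
    exact ⟨x, hM.ext fun i => ⟨N i, by rw [← map_smul, hx, map_smul, hc, ← mul_smul, smul_comm]⟩⟩
  choose x hx using hsur
  have hx' : ∀ d d', b d = b d' → U • d = U • d' := fun d d' h => by
    rw [← sub_eq_zero, ← smul_sub]
    exact hker _ (by rw [map_sub, h, sub_self])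
  refine ⟨U, hU, 3, n, { toFun := fun m => U • x m
                         map_add' := fun m m' => by
                           rw [← smul_add]
                           exact hx' _ _ (by rw [map_add, hx, hx, hx, smul_add])
                         map_smul' := fun a m => by
                           rw [RingHom.id_apply, smul_comm a]
                           exact hx' _ _ (by rw [map_smul, hx, hx, smul_comm]) }, b, fun m => ?_⟩
  show b (U • x m) = U ^ 3 • m
  rw [map_smul, hx, ← mul_smul]
  congr 1
  ring

/-- Finite projectivity of the extension. -/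
theorem finite_projective_of_regOutside [Finite ι] {g : ι → R} (h : RegOutside g) (hM : GLoc g M)
    (hfree : ∀ i, FreeAway M (g i)) {n : ℕ} (Φ : (Fin n → M) →ₗ[R] Module.End R M)
    (hΦ : ∀ i, AwayBij (g i) Φ) : Module.Finite R M ∧ Module.Projective R M := by
  classical
  have hR := gloc_self_of_regOutside h
  suffices key : ∀ (d : ℕ) (p : Ideal R) [p.IsPrime], (∀ i, g i ∈ p) → p.height = (d : ℕ∞) →
      ∃ f ∉ p, FreeAway M f by
    have hall : ∀ (p : Ideal R) [p.IsPrime], ∃ f ∉ p, FreeAway M f := fun p _ => by
      by_cases hp : ∀ i, g i ∈ p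
      · haveI := (h p hp).1
        have hfin : p.height ≠ ⊤ := by
          rw [← lt_top_iff_ne_top]
          have := (ringKrullDim_lt_top (R := Localization.AtPrime p))
          rw [IsLocalization.AtPrime.ringKrullDim_eq_height p (Localization.AtPrime p)] at this
          exact WithBot.coe_lt_coe.1 (lt_of_lt_of_eq this WithBot.coe_top.symm)
        exact key _ p hp (ENat.natCast_toNat hfin).symm
      · push Not at hp
        obtain ⟨i, hi⟩ := hp
        exact ⟨g i, hi, hfree i⟩
    refine FreeAway.finite_projective ?_
    have htop : Ideal.span {f : R | FreeAway M f} = ⊤ := by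
      by_contra hne
      obtain ⟨P, hP, hle⟩ := Ideal.exists_le_maximal _ hne
      haveI := hP.isPrime
      obtain ⟨f, hfP, hf⟩ := hall P
      exact hfP (hle (Ideal.subset_span hf))
    obtain ⟨T, hT, h1⟩ := Submodule.mem_span_finite_of_mem_span
      ((Ideal.eq_top_iff_one _).1 htop : (1 : R) ∈ Submodule.span R _)
    refine FreeAway.of_mem_radical (f := fun t : (T : Set R) => (t : R)) (fun t => hT t.2) ?_
    rw [Subtype.range_coe]
    exact Ideal.le_radical h1
  intro d
  induction d using Nat.strong_induction_on with
  | _ d ih =>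
    intro p _ hp hd
    haveI := (h p hp).1
    let A := Localization.AtPrime p
    let MA := A ⊗[R] M
    have hlow : ∀ (q : Ideal R) [q.IsPrime], q < p → ∃ f ∉ q, FreeAway M f := fun q _ hq => by
      by_cases hqg : ∀ i, g i ∈ q
      · haveI : p.FiniteHeight := ⟨Or.inr (by rw [hd]; exact ENat.natCast_ne_top d)⟩
        haveI : q.FiniteHeight :=
          ⟨Or.inr (ne_top_of_le_ne_top (by rw [hd]; exact ENat.natCast_ne_top d) (Ideal.height_mono hq.le))⟩
        have hlt : q.height < p.height := Ideal.height_strict_mono_of_isPrime hq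
        obtain ⟨e, he⟩ : ∃ e : ℕ, q.height = e := ⟨_, (ENat.natCast_toNat hlt.ne_top).symm⟩
        exact ih e (by rw [he, hd] at hlt; exact_mod_cast hlt) q hqg he
      · push Not at hqg
        obtain ⟨i, hi⟩ := hqg
        exact ⟨g i, hi, hfree i⟩
    have hAfree : ∀ a ∈ maximalIdeal A, FreeAway MA a := fun a ha => by
      obtain ⟨T, hTsub, hTspan⟩ := (Submodule.fg_span_iff_fg_span_finset_subset
        (algebraMap R A '' {f : R | FreeAway M f})).1
        (IsNoetherian.noetherian (Submodule.span A (algebraMap R A '' {f : R | FreeAway M f})))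
      refine FreeAway.of_mem_radical (f := fun t : (T : Set A) => (t : A)) (fun t => ?_) ?_
      · obtain ⟨f, hf, hft⟩ := hTsub t.2
        rw [← hft]
        exact FreeAway.baseChange hf A
      · rw [Subtype.range_coe, show Ideal.span (T : Set A) = Ideal.span (algebraMap R A '' {f : R | FreeAway M f})
          from hTspan.symm, Ideal.radical_eq_sInf]
        rw [Submodule.mem_sInf]
        rintro (Q : Ideal A) ⟨hQle, hQ⟩
        haveI := hQ
        rcases eq_or_lt_of_le (IsLocalRing.le_maximalIdeal hQ.ne_top) with hQm | hQm
        · exact hQm ▸ ha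
        · exfalso
          have hlt : Ideal.comap (algebraMap R A) Q < p := by
            refine lt_of_lt_of_eq (b := Ideal.comap (algebraMap R A) (maximalIdeal A)) ?_
              (IsLocalization.AtPrime.under_maximalIdeal A p)
            refine lt_of_le_of_ne (Ideal.comap_mono hQm.le) fun he => hQm.ne ?_
            rw [← IsLocalization.map_under p.primeCompl A Q, ← IsLocalization.map_under p.primeCompl A (maximalIdeal A)]
            exact congrArg (Ideal.map (algebraMap R A)) he
          obtain ⟨f, hfQ, hf⟩ := hlow _ hlt
          exact hfQ (hQle (Ideal.subset_span ⟨f, hf, rfl⟩))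
    obtain ⟨T, hT⟩ := IsNoetherian.noetherian (maximalIdeal A)
    let G : ↥(T : Set A) → A := fun t => t
    have hG : Ideal.span (Set.range G) = maximalIdeal A := by rw [Subtype.range_coe]; exact hT
    have h2 : 2 ≤ (maximalIdeal A).spanFinrank := by
      have := (h p hp).2
      rw [← (isRegularLocalRing_iff A).1 (h p hp).1] at this
      exact_mod_cast this
    have hgA : ∀ i, FreeAway MA (algebraMap R A (g i)) := fun i => (hfree i).baseChange A
    have hMg : GLoc (fun i => algebraMap R A (g i)) MA := hM.localize p.primeCompl A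
    have hMG : GLoc G MA := hMg.change hgA (gloc_self_maximal h2 G hG)
    haveI : Module.Finite A MA := hMg.finite hgA
    obtain ⟨Ψ, hΨ⟩ := exists_endLocalize p.primeCompl A hfree Φ hΦ
    haveI : Module.Free A MA := free_of_end A rfl h2 G hG MA hAfree hMG
      (LinearEquiv.ofBijective Ψ (bijective_of_awayBij (hMg.pi (κ := Fin n)) hMg.hom hΨ))
    let B := Module.finBasis A MA
    let f := TensorProduct.mk R A M 1
    obtain ⟨s, hs⟩ := IsLocalizedModule.exist_integer_multiples_of_finite p.primeCompl f B
    choose z hz using hs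
    let b : (Fin (Module.finrank A MA) → R) →ₗ[R] M := Fintype.linearCombination R z
    have hsu : IsUnit (algebraMap R A s) := IsLocalization.map_units A s
    have hfb : ∀ c, f (b c) = algebraMap R A s • B.equivFun.symm fun i => algebraMap R A (c i) := fun c => by
      rw [Fintype.linearCombination_apply, map_sum, Module.Basis.equivFun_symm_apply, Finset.smul_sum]
      refine Finset.sum_congr rfl fun i _ => ?_
      rw [map_smul, hz, algebraMap_smul, algebraMap_smul, smul_comm]
    refine exists_freeAway_of_iso_at hR hM hfree p b (fun y => ?_) fun c hc => ?_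
    · obtain ⟨t, ht⟩ := IsLocalization.exist_integer_multiples_of_finite p.primeCompl
        (B.equivFun ((↑hsu.unit⁻¹ : A) • f y))
      choose c hc using ht
      have he : f (b c) = f ((t : R) • y) := by
        rw [hfb, map_smul, ← algebraMap_smul A (t : R),
          show (fun i => algebraMap R A (c i)) = algebraMap R A t • B.equivFun ((↑hsu.unit⁻¹ : A) • f y) from
            funext fun i => by rw [hc, Pi.smul_apply, algebraMap_smul],
          map_smul, LinearEquiv.symm_apply_apply, smul_smul, smul_smul]
        congr 1
        rw [mul_comm, ← mul_assoc, IsUnit.val_inv_mul, one_mul]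
      obtain ⟨w, hw⟩ := (IsLocalizedModule.eq_iff_exists p.primeCompl f).1 he
      exact ⟨(w : R) * t, (w * t).2, (w : R) • c, by rw [map_smul, mul_smul]; exact hw⟩
    · have h0 : (fun i => algebraMap R A (c i)) = 0 := by
        have := hfb c
        rw [hc, map_zero, eq_comm, hsu.smul_eq_zero, LinearEquiv.map_eq_zero_iff] at this
        exact this
      choose w hw using fun i => (IsLocalization.map_eq_zero_iff p.primeCompl A (c i)).1 (congrFun h0 i)
      refine ⟨((∏ i, w i : p.primeCompl) : R), (∏ i, w i).2, funext fun i => ?_⟩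
      rw [Pi.smul_apply, smul_eq_mul, show (∏ j, w j) = (∏ j ∈ Finset.univ.erase i, w j) * w i from
        (Finset.prod_erase_mul Finset.univ w (Finset.mem_univ i)).symm, Submonoid.coe_mul, mul_assoc, hw,
        mul_zero]
      rfl

end Groth.Agent.NonAbLib.Extend
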