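import Groth.Agent.NonAbLib.Extend.Pair
import Groth.Agent.NonAbLib.Extend.Spread
import Mathlib.AlgebraicGeometry.Normalization

/-!
# The extension is the relative normalisation

A finite locally free scheme over an open `U`, carrying a comparison `G × P ≅ P × P` over `P`,
extends to a finite locally free scheme if the local rings outside `U` are regular of dimension at
least two; the extension is the relative normalisation.
-/

set_option autoImplicit false
set_option linter.style.haveILetI false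

universe u

open CategoryTheory CategoryTheory.Limits AlgebraicGeometry TopologicalSpace Opposite TensorProduct

noncomputable section

namespace Groth.Agent.NonAbLib.Extend

variable {X : Scheme.{u}}

/-- The hypothesis on the complement of the open. -/
def RegularOutside (U : X.Opens) : Prop :=
  ∀ z : X, z ∉ U → IsRegularLocalRing (X.presheaf.stalk z) ∧ (2 : WithBot ℕ∞) ≤ ringKrullDim (X.presheaf.stalk z)

theorem RegularOutside.regOutside {U : X.Opens} (hU : RegularOutside U) {V : X.Opens} (hV : IsAffineOpen V)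
    {ι : Type u} (gs : ι → Γ(X, V)) (hcov : ∀ x, x ∈ U → x ∈ V → ∃ i, x ∈ X.basicOpen (gs i)) :
    RegOutside gs := by
  intro p _ hp
  let y : PrimeSpectrum Γ(X, V) := ⟨p, inferInstance⟩
  have hxV : hV.fromSpec y ∈ V := hV.range_fromSpec.subset ⟨y, rfl⟩
  have hxU : hV.fromSpec y ∉ U := fun h => by
    obtain ⟨i, hi⟩ := hcov _ h hxV
    have hi' : y ∈ hV.fromSpec ⁻¹ᵁ X.basicOpen (gs i) := hi
    rw [hV.fromSpec_preimage_basicOpen] at hi'
    exact hi' (hp i)
  obtain ⟨hreg, hdim⟩ := hU _ hxU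
  letI := (X.presheaf.germ V (hV.fromSpec y) hxV).hom.toAlgebra
  haveI : IsLocalization p.primeCompl (X.presheaf.stalk (hV.fromSpec y)) := hV.isLocalization_stalk' y hxV
  let e : X.presheaf.stalk (hV.fromSpec y) ≃+* Localization.AtPrime p :=
    (IsLocalization.algEquiv p.primeCompl (X.presheaf.stalk (hV.fromSpec y)) (Localization.AtPrime p)).toRingEquiv
  exact ⟨IsRegularLocalRing.of_ringEquiv e, by rwa [← ringKrullDim_eq_of_ringEquiv e]⟩

theorem specMap_app {Y : Scheme.{u}} (π : Y ⟶ X) [IsAffineHom π] {V : X.Opens} (hV : IsAffineOpen V) :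
    (hV.preimage π).isoSpec.inv ≫ (π ∣_ V) ≫ hV.isoSpec.hom = Spec.map (π.app V) := by
  rw [← cancel_mono hV.fromSpec, Category.assoc, Category.assoc, IsAffineOpen.isoSpec_hom,
    IsAffineOpen.toSpecΓ_fromSpec, morphismRestrict_ι, Scheme.Hom.app_eq_appLE,
    IsAffineOpen.SpecMap_appLE_fromSpec π hV (hV.preimage π) le_rfl, ← Category.assoc]
  rfl

theorem bijective_appLE_congr {A B : Scheme.{u}} {f g : A ⟶ B} (h : f = g) {W : B.Opens} {V V' : A.Opens}
    (hV : V = V') (e : V ≤ f ⁻¹ᵁ W) (e' : V' ≤ g ⁻¹ᵁ W) (hb : Function.Bijective (f.appLE W V e)) :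
    Function.Bijective (g.appLE W V' e') := by
  subst h hV
  exact hb

variable {U : X.Opens} {P : Scheme.{u}} (p : P ⟶ U) {G : Scheme.{u}} (Gh : G ⟶ X)

/-- The finite locally free extension. -/
theorem extension_of_regularOutside [QuasiCompact U.ι] [IsFinite p] [Flat p] [LocallyOfFinitePresentation p]
    [IsFinite Gh] [Flat Gh] [LocallyOfFinitePresentation Gh] (hU : RegularOutside U)
    (e : pullback Gh (p ≫ U.ι) ≅ pullback (p ≫ U.ι) (p ≫ U.ι))
    (he : e.hom ≫ pullback.snd (p ≫ U.ι) (p ≫ U.ι) = pullback.snd Gh (p ≫ U.ι)) :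
    IsFinite (p ≫ U.ι).fromNormalization ∧ Flat (p ≫ U.ι).fromNormalization ∧
      LocallyOfFinitePresentation (p ≫ U.ι).fromNormalization ∧
      IsPullback (p ≫ U.ι).toNormalization p (p ≫ U.ι).fromNormalization U.ι := by
  classical
  let f := p ≫ U.ι
  let π := f.fromNormalization
  let j := f.toNormalization
  have hfrange : ∀ y, f y ∈ U := fun y => (p y).2
  -- affine opens over which the group is free
  let good : Set X.Opens := {V | ∃ (_ : IsAffineOpen V) (n : ℕ),
    Nonempty (Module.Basis (Fin n) Γ(X, V) (Sec Gh V))}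
  have hcover : (⨆ V : good, (V.1 : X.Opens)) = ⊤ := by
    refine top_le_iff.1 fun z _ => ?_
    obtain ⟨_, ⟨W, hW, rfl⟩, hzW, -⟩ :=
      X.isBasis_affineOpens.exists_subset_of_mem_open (Set.mem_univ z) isOpen_univ
    obtain ⟨r, n, hzr, hb⟩ := exists_basis_basic (Gh := Gh) hW hzW
    exact Opens.mem_iSup.2 ⟨⟨X.basicOpen r, hW.basicOpen r, n, hb⟩, hzr⟩
  have key : ∀ V : good, ∀ hV : IsAffineOpen V.1,
      Module.Finite Γ(X, V.1) (Sec f V.1) ∧ Module.Projective Γ(X, V.1) (Sec f V.1) := by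
    rintro ⟨V, hVgood⟩ hV
    obtain ⟨_, n, ⟨b⟩⟩ := hVgood
    obtain ⟨κ, _, gs, hgU, hcov⟩ := exists_family U hV
    have hreg := hU.regOutside hV gs hcov
    have hR := gloc_self_of_regOutside hreg
    have hM : GLoc gs (Sec f V) := gloc_sec f gs hV fun y hy => hcov _ (hfrange y) hy
    have hfree := freeAway_sec gs p hV hgU hR hM
    have haff : ∀ i, IsAffineOpen (f ⁻¹ᵁ X.basicOpen (gs i)) := fun i =>
      ((hV.basicOpen (gs i)).preimage_of_isOpenImmersion U.ι
        (by rw [Scheme.Opens.opensRange_ι]; exact hgU i)).preimage p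
    obtain ⟨Φ, hΦ⟩ := exists_endPres_sec Gh f hV gs haff b e he hfree
    exact finite_projective_of_regOutside hreg hM hfree Φ hΦ
  have happ : ∀ V : good, ∀ hV : IsAffineOpen V.1,
      (π.app V.1).hom.Finite ∧ (π.app V.1).hom.Flat ∧ (π.app V.1).hom.FinitePresentation := by
    intro V hV
    obtain ⟨_, _⟩ := key V hV
    letI := (f.app V.1).hom.toAlgebra
    haveI : Module.Finite Γ(X, V.1) Γ(P, f ⁻¹ᵁ V.1) := ‹Module.Finite Γ(X, V.1) (Sec f V.1)›
    haveI : Module.Projective Γ(X, V.1) Γ(P, f ⁻¹ᵁ V.1) := ‹Module.Projective Γ(X, V.1) (Sec f V.1)›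
    let A := integralClosure Γ(X, V.1) Γ(P, f ⁻¹ᵁ V.1)
    have htop : A = ⊤ := integralClosure_eq_top_iff.2 inferInstance
    let eA : A ≃ₐ[Γ(X, V.1)] Γ(P, f ⁻¹ᵁ V.1) :=
      (Subalgebra.equivOfEq _ _ htop).trans Subalgebra.topEquiv
    haveI : Module.Finite Γ(X, V.1) A := Module.Finite.equiv eA.symm.toLinearEquiv
    haveI : Module.Projective Γ(X, V.1) A := Module.Projective.of_equiv eA.symm.toLinearEquiv
    haveI : Module.FinitePresentation Γ(X, V.1) A := Module.finitePresentation_of_projective _ _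
    haveI : Algebra.FinitePresentation Γ(X, V.1) A := Algebra.FinitePresentation.of_finitePresentation _ _
    let iso := (f.normalizationObjIso hV).commRingCatIsoToRingEquiv.symm
    have heq : (π.app V.1).hom = iso.toRingHom.comp (algebraMap Γ(X, V.1) A) := by
      rw [show π.app V.1 = _ from f.fromNormalization_app hV]
      rfl
    rw [heq]
    exact ⟨RingHom.finite_respectsIso.1 _ iso (RingHom.finite_algebraMap.2 inferInstance),
      RingHom.Flat.respectsIso.1 _ iso (RingHom.flat_algebraMap_iff.2 inferInstance),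
      RingHom.finitePresentation_respectsIso.1 _ iso (RingHom.finitePresentation_algebraMap.2 inferInstance)⟩
  have hprop : ∀ (Pr : MorphismProperty Scheme.{u}) [IsZariskiLocalAtTarget Pr],
      (∀ (V : good) (hV : IsAffineOpen V.1), Pr (Spec.map (π.app V.1))) → Pr π := by
    intro Pr _ h
    refine (IsZariskiLocalAtTarget.iff_of_iSup_eq_top (P := Pr) _ hcover).2 fun V => ?_
    obtain ⟨hV, -⟩ := id V.2
    have h' := h V hV
    rw [← specMap_app π hV] at h'
    rwa [MorphismProperty.cancel_left_of_respectsIso Pr, MorphismProperty.cancel_right_of_respectsIso Pr] at h'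
  haveI hfin : IsFinite π := hprop @IsFinite fun V hV => (IsFinite.SpecMap_iff _).2 (happ V hV).1
  haveI hflat : Flat π := hprop @Flat fun V hV => HasRingHomProperty.Spec_iff.2 (happ V hV).2.1
  haveI hfp : LocallyOfFinitePresentation π :=
    hprop @LocallyOfFinitePresentation fun V hV => HasRingHomProperty.Spec_iff.2 (happ V hV).2.2
  refine ⟨hfin, hflat, hfp, ?_⟩
  -- over the open
  have hjπ : j ≫ π = p ≫ U.ι := f.toNormalization_fromNormalization
  let r : P ⟶ pullback π U.ι := pullback.lift j p hjπ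
  haveI : IsFinite (r ≫ pullback.snd π U.ι) := by rw [pullback.lift_snd]; infer_instance
  haveI : IsFinite r := IsFinite.of_comp r (pullback.snd π U.ι)
  suffices IsIso r from
    IsPullback.of_iso_pullback ⟨hjπ⟩ (asIso r) (pullback.lift_fst _ _ _) (pullback.lift_snd _ _ _)
  have hUcov : (⨆ W : {V : X.affineOpens // V.1 ≤ U}, pullback.snd π U.ι ⁻¹ᵁ (U.ι ⁻¹ᵁ W.1.1)) = ⊤ := by
    refine top_le_iff.1 fun y _ => ?_
    obtain ⟨_, ⟨W, hW, rfl⟩, hzW, hWU⟩ :=
      X.isBasis_affineOpens.exists_subset_of_mem_open (pullback.snd π U.ι y).2 U.2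
    exact Opens.mem_iSup.2 ⟨⟨⟨W, hW⟩, hWU⟩, hzW⟩
  refine (IsZariskiLocalAtTarget.iff_of_iSup_eq_top (P := MorphismProperty.isomorphisms Scheme) _ hUcov).2
    fun W => ?_
  obtain ⟨⟨W, hW'⟩, hWU⟩ := W
  have hW : IsAffineOpen W := hW'
  have hWaff : IsAffineOpen (U.ι ⁻¹ᵁ W) :=
    hW.preimage_of_isOpenImmersion U.ι (by rw [Scheme.Opens.opensRange_ι]; exact hWU)
  show IsIso (r ∣_ _)
  rw [isIso_morphismRestrict_iff_isIso_app r (hWaff.preimage (pullback.snd π U.ι))]
  letI := (f.app W).hom.toAlgebra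
  have hint : integralClosure Γ(X, W) Γ(P, f ⁻¹ᵁ W) = ⊤ := by
    rw [integralClosure_eq_top_iff, ← algebraMap_isIntegral_iff, RingHom.algebraMap_toAlgebra]
    haveI : IsIso (U.ι.app W) := Scheme.Hom.isIso_app _ _ (by rw [Scheme.Opens.opensRange_ι]; exact hWU)
    exact RingHom.Finite.to_isIntegral ((IsFinite.finite_app (f := p) _ hWaff).comp
      (RingHom.Finite.of_surjective _ (ConcreteCategory.bijective_of_isIso (U.ι.app W)).2))
  have hj : Function.Bijective (j.appLE (π ⁻¹ᵁ W) (f ⁻¹ᵁ W)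
      (by rw [← Scheme.Hom.comp_preimage, hjπ])) := by
    rw [← f.normalizationObjIso_hom_val hW]
    exact Function.Bijective.comp (g := (integralClosure Γ(X, W) Γ(P, f ⁻¹ᵁ W)).val)
      ⟨Subtype.val_injective, fun y => ⟨⟨y, hint ▸ Algebra.mem_top⟩, rfl⟩⟩
      (ConcreteCategory.bijective_of_isIso (f.normalizationObjIso hW).hom)
  have hopen : pullback.snd π U.ι ⁻¹ᵁ (U.ι ⁻¹ᵁ W) = pullback.fst π U.ι ⁻¹ᵁ (π ⁻¹ᵁ W) := by
    rw [← Scheme.Hom.comp_preimage, ← Scheme.Hom.comp_preimage, pullback.condition]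
  rw [hopen]
  haveI : IsIso ((pullback.fst π U.ι).app (π ⁻¹ᵁ W)) := Scheme.Hom.isIso_app _ _ fun y hy => by
    show y ∈ Set.range (pullback.fst π U.ι).base
    rw [Scheme.Pullback.range_fst, Scheme.Opens.range_ι]
    exact hWU hy
  have hcomp : Function.Bijective ((pullback.fst π U.ι).app (π ⁻¹ᵁ W) ≫
      r.app (pullback.fst π U.ι ⁻¹ᵁ (π ⁻¹ᵁ W))) := by
    rw [← Scheme.Hom.comp_app, Scheme.Hom.app_eq_appLE]
    refine bijective_appLE_congr (pullback.lift_fst j p hjπ).symm ?_ _ _ hj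
    show f ⁻¹ᵁ W = (pullback.lift j p hjπ ≫ pullback.fst π U.ι) ⁻¹ᵁ π ⁻¹ᵁ W
    rw [pullback.lift_fst, ← Scheme.Hom.comp_preimage, hjπ]
  rw [ConcreteCategory.isIso_iff_bijective]
  refine (Function.Bijective.of_comp_iff _ (ConcreteCategory.bijective_of_isIso
    ((pullback.fst π U.ι).app (π ⁻¹ᵁ W)))).1 ?_
  exact hcomp

end Groth.Agent.NonAbLib.Extend
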