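import Groth.Agent.NonAbLib.RegDepth
import Groth.Agent.NonAbLib.Extend.Global
import Mathlib.CategoryTheory.Monoidal.Cartesian.Over

/-!
# Restriction to an open with regular complement of codimension two is fully faithful

Morphisms from flat schemes to affine schemes over `X` are the same as morphisms over the open.
-/

set_option autoImplicit false
set_option linter.style.haveILetI false

universe u

open CategoryTheory CategoryTheory.Limits AlgebraicGeometry TopologicalSpace

noncomputable section

namespace Groth.Agent.NonAbLib.Extend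

variable {X : Scheme.{u}} {U : X.Opens} {Z Y : Over X}

/-- The open of `Z` over `U`, as a scheme over the fibre product. -/
def toPullback (Z : Over X) (U : X.Opens) : (Z.hom ⁻¹ᵁ U).toScheme ⟶ pullback Z.hom U.ι :=
  pullback.lift (Z.hom ⁻¹ᵁ U).ι (Z.hom ∣_ U) (morphismRestrict_ι Z.hom U).symm

theorem pullback_map_fst (h : Z ⟶ Y) (U : X.Opens) :
    ((Over.pullback U.ι).map h).left ≫ pullback.fst Y.hom U.ι = pullback.fst Z.hom U.ι ≫ h.left :=
  pullback.lift_fst _ _ _

/-- Agreement on the open determines a morphism. -/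
theorem pullback_map_injective [Flat Z.hom] [IsAffineHom Y.hom] (hU : RegularOutside U) {u v : Z ⟶ Y}
    (h : (Over.pullback U.ι).map u = (Over.pullback U.ι).map v) : u = v := by
  refine Over.OverMorphism.ext (CAlgOdd.HartogsTwo.eq_of_eq (Z.hom ⁻¹ᵁ U) (NonAbLib.reg2_of_flat Z.hom U hU)
    Y.hom ((Over.w u).trans (Over.w v).symm) ?_)
  have h' := congrArg (fun m => toPullback Z U ≫ m.left ≫ pullback.fst Y.hom U.ι) h
  simp only [pullback_map_fst, toPullback] at h'
  rwa [pullback.lift_fst_assoc, pullback.lift_fst_assoc] at h'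

/-- Morphisms over the open extend. -/
theorem pullback_map_surjective [Flat Z.hom] [IsAffineHom Y.hom] [QuasiCompact U.ι] (hU : RegularOutside U)
    (c : (Over.pullback U.ι).obj Z ⟶ (Over.pullback U.ι).obj Y) : ∃ a, (Over.pullback U.ι).map a = c := by
  let U₁ : Z.left.Opens := Z.hom ⁻¹ᵁ U
  have : QuasiCompact U₁.ι :=
    MorphismProperty.of_isPullback (isPullback_morphismRestrict Z.hom U) (inferInstanceAs (QuasiCompact U.ι))
  let l : (U₁ : Scheme.{u}) ⟶ pullback Z.hom U.ι :=
    pullback.lift U₁.ι (Z.hom ∣_ U) (morphismRestrict_ι Z.hom U).symm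
  let r : pullback Z.hom U.ι ⟶ (U₁ : Scheme.{u}) :=
    IsOpenImmersion.lift U₁.ι (pullback.fst Z.hom U.ι) (by
      rw [Scheme.Opens.range_ι, Scheme.Pullback.range_fst, Scheme.Opens.range_ι]
      rfl)
  have hr : r ≫ U₁.ι = pullback.fst Z.hom U.ι := IsOpenImmersion.lift_fac _ _ _
  have hrl : r ≫ l = 𝟙 _ := by
    refine pullback.hom_ext ?_ ?_
    · rw [Category.assoc, pullback.lift_fst, hr, Category.id_comp]
    · rw [Category.assoc, pullback.lift_snd, ← cancel_mono U.ι, Category.assoc, morphismRestrict_ι,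
        ← Category.assoc, hr, pullback.condition, Category.id_comp]
  let m : pullback Z.hom U.ι ⟶ Y.left := c.left ≫ pullback.fst Y.hom U.ι
  have hm : m ≫ Y.hom = pullback.fst Z.hom U.ι ≫ Z.hom := by
    rw [Category.assoc, pullback.condition, pullback.condition, ← Category.assoc]
    exact congrArg (· ≫ U.ι) (Over.w c)
  have : IsAffineHom (pullback.snd Y.hom Z.hom) :=
    isAffineHom_isStableUnderBaseChange.of_isPullback (IsPullback.of_hasPullback Y.hom Z.hom) inferInstance
  obtain ⟨σ, ⟨hσ, hσU⟩, -⟩ := CAlgOdd.HartogsTwo.existsUnique_section U₁ (NonAbLib.reg2_of_flat Z.hom U hU)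
    (pullback.snd Y.hom Z.hom) (pullback.lift (l ≫ m) U₁.ι (by
      rw [Category.assoc, hm, pullback.lift_fst_assoc]))
    (pullback.lift_snd _ _ _)
  let h : Z ⟶ Y := Over.homMk (σ ≫ pullback.fst Y.hom Z.hom) (by
    rw [Category.assoc, pullback.condition, ← Category.assoc, hσ, Category.id_comp])
  refine ⟨h, Over.OverMorphism.ext (pullback.hom_ext ?_ ?_)⟩
  · refine (pullback_map_fst h U).trans ?_
    show pullback.fst Z.hom U.ι ≫ σ ≫ pullback.fst Y.hom Z.hom = m
    rw [← hr, Category.assoc, reassoc_of% hσU, pullback.lift_fst, reassoc_of% hrl]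
  · exact (pullback.lift_snd _ _ _).trans (Over.w c).symm

/-- A morphism is invertible if it is so over the open. -/
theorem isIso_of_pullback_map [Flat Z.hom] [IsAffineHom Z.hom] [Flat Y.hom] [IsAffineHom Y.hom]
    [QuasiCompact U.ι] (hU : RegularOutside U) (f : Z ⟶ Y) [IsIso ((Over.pullback U.ι).map f)] : IsIso f := by
  obtain ⟨g, hg⟩ := pullback_map_surjective hU (inv ((Over.pullback U.ι).map f))
  exact ⟨g, pullback_map_injective hU (by rw [Functor.map_comp, hg, IsIso.hom_inv_id, CategoryTheory.Functor.map_id]),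
    pullback_map_injective hU (by rw [Functor.map_comp, hg, IsIso.inv_hom_id, CategoryTheory.Functor.map_id])⟩

/-- Every point outside the open is a specialisation of a point of the open. -/
theorem exists_specializes_mem (hU : RegularOutside U) (z : X) : ∃ w ∈ U, w ⤳ z := by
  obtain ⟨_, ⟨V, hV : IsAffineOpen V, rfl⟩, hzV, -⟩ :=
    X.isBasis_affineOpens.exists_subset_of_mem_open (Set.mem_univ z) isOpen_univ
  let y : PrimeSpectrum Γ(X, V) := hV.primeIdealOf ⟨z, hzV⟩
  obtain ⟨q, hq, hqy⟩ := Ideal.exists_minimalPrimes_le (bot_le : ⊥ ≤ y.asIdeal)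
  haveI := hq.1.1
  let η : PrimeSpectrum Γ(X, V) := ⟨q, hq.1.1⟩
  refine ⟨hV.fromSpec η, ?_, ?_⟩
  · by_contra hnot
    obtain ⟨-, hdim⟩ := hU _ hnot
    have hxV : hV.fromSpec η ∈ V := hV.range_fromSpec.subset ⟨η, rfl⟩
    let := (X.presheaf.germ V (hV.fromSpec η) hxV).hom.toAlgebra
    have : IsLocalization.AtPrime (X.presheaf.stalk (hV.fromSpec η)) q := hV.isLocalization_stalk' η hxV
    rw [IsLocalization.AtPrime.ringKrullDim_eq_height q (X.presheaf.stalk (hV.fromSpec η)),
      Ideal.height_eq_zero_iff.2 hq] at hdim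
    exact absurd hdim (by decide)
  · rw [← show hV.fromSpec y = z from hV.fromSpec_primeIdealOf ⟨z, hzV⟩]
    exact ((PrimeSpectrum.le_iff_specializes η y).1 hqy).map hV.fromSpec.continuous

/-- A closed image containing the open is everything. -/
theorem surjective_of_isClosedMap {Q : Scheme.{u}} (π : Q ⟶ X) [UniversallyClosed π] (hU : RegularOutside U)
    (h : ∀ x ∈ U, x ∈ Set.range π) : Surjective π := by
  refine ⟨fun z => ?_⟩
  obtain ⟨w, hw, hwz⟩ := exists_specializes_mem hU z
  exact hwz.mem_closed π.isClosedMap.isClosed_range (h w hw)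

end Groth.Agent.NonAbLib.Extend
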