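import Groth.Agent.NonAbLib.Extend.SecAlg

/-!
# The endomorphisms of the sections of a torsor

If `G ×_X P ≅ P ×_X P` over `P`, with `G` finite free of rank `n` over an affine open `V` and `P`
finite locally free over an open, then the endomorphisms of the sections of `P` over `V` form the
`n`-th power of these sections, away from the complement.
-/

set_option autoImplicit false

universe u

open CategoryTheory CategoryTheory.Limits AlgebraicGeometry TopologicalSpace Opposite TensorProduct

noncomputable section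

namespace Groth.Agent.NonAbLib.Extend

section Alg

variable {R : Type u} [CommRing R] {H S : Type u} [CommRing H] [Algebra R H] [CommRing S] [Algebra R S]

/-- The endomorphisms from a right linear comparison `S ⊗ S → H ⊗ S` bijective on each open. -/
theorem exists_endPres {ι : Type u} (g : ι → R) {n : ℕ} (b : Module.Basis (Fin n) R H)
    (μ : S ⊗[R] S →ₐ[R] H ⊗[R] S) (hμ : ∀ s, μ (1 ⊗ₜ s) = 1 ⊗ₜ s)
    (hμb : ∀ i, AwayBij (g i) μ.toLinearMap) (hfree : ∀ i, FreeAway S (g i)) :
    ∃ Φ : (Fin n → S) →ₗ[R] Module.End R S, ∀ i, AwayBij (g i) Φ := by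
  classical
  let π : Fin n → (H ⊗[R] S →ₗ[R] S) := fun k =>
    (TensorProduct.lid R S).toLinearMap.comp ((b.coord k).rTensor S)
  have hπ : ∀ k h t, π k (h ⊗ₜ t) = b.coord k h • t := fun k h t => rfl
  let Φ : (Fin n → S) →ₗ[R] Module.End R S :=
    ∑ k, ((LinearMap.llcomp R S S S).flip
      ((π k).comp (μ.toLinearMap.comp ((TensorProduct.mk R S S).flip 1)))).comp
      ((LinearMap.mul R S).comp (LinearMap.proj k))
  have hΦ : ∀ F x, Φ F x = ∑ k, F k * π k (μ (x ⊗ₜ 1)) := fun F x => by
    simp [Φ]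
  have hπs : ∀ k z (s : S), π k (z * (1 ⊗ₜ s)) = π k z * s := fun k z s => by
    induction z using TensorProduct.induction_on with
    | zero => simp
    | tmul h t => rw [Algebra.TensorProduct.tmul_mul_tmul, mul_one, hπ, hπ, smul_mul_assoc]
    | add z z' hz hz' => rw [add_mul, map_add, map_add, hz, hz', add_mul]
  let Ft : (Fin n → S) → (H ⊗[R] S →ₗ[R] S) := fun F => ∑ k, (LinearMap.mulLeft R (F k)).comp (π k)
  have hFt : ∀ F x s, Ft F (μ (x ⊗ₜ s)) = Φ F x * s := fun F x s => by
    have h : μ (x ⊗ₜ[R] s) = μ (x ⊗ₜ 1) * (1 ⊗ₜ s) := by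
      rw [← hμ s, ← map_mul, Algebra.TensorProduct.tmul_mul_tmul, mul_one, one_mul]
    rw [h, hΦ, Finset.sum_mul]
    simp only [Ft, LinearMap.sum_apply, LinearMap.comp_apply, LinearMap.mulLeft_apply, hπs, mul_assoc]
  have hFb : ∀ F k, Ft F (b k ⊗ₜ 1) = F k := fun F k => by
    simp only [Ft, LinearMap.sum_apply, LinearMap.comp_apply, LinearMap.mulLeft_apply, hπ]
    rw [Finset.sum_eq_single k]
    · simp
    · intro l _ hl
      simp [Finsupp.single_eq_of_ne hl]
    · simp
  refine ⟨Φ, fun i => ⟨fun G => ?_, fun F hF => ?_⟩⟩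
  · choose p w hw using fun k => (hμb i).surj (b k ⊗ₜ[R] (1 : S))
    let P := Finset.univ.sup p
    have hP : ∀ k, g i ^ P = g i ^ (P - p k) * g i ^ p k := fun k => by
      rw [← pow_add, Nat.sub_add_cancel (Finset.le_sup (Finset.mem_univ k))]
    let Gt : S ⊗[R] S →ₗ[R] S := (LinearMap.mul' R S).comp (G.rTensor S)
    have hGt : ∀ z s, Gt (z * (1 ⊗ₜ s)) = Gt z * s := fun z s => by
      induction z using TensorProduct.induction_on with
      | zero => simp
      | tmul x t =>
        rw [Algebra.TensorProduct.tmul_mul_tmul, mul_one]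
        simp only [Gt, LinearMap.comp_apply, LinearMap.rTensor_tmul, LinearMap.mul'_apply, mul_assoc]
      | add z z' hz hz' => rw [add_mul, map_add, map_add, hz, hz', add_mul]
    let w' : Fin n → S ⊗[R] S := fun k => g i ^ (P - p k) • w k
    let F : Fin n → S := fun k => Gt (w' k)
    obtain ⟨N, r, φ, ψ, hψ⟩ := hfree i
    have hx : ∀ x : S, ∃ q : ℕ, g i ^ q • (Φ F x - g i ^ P • G x) = 0 := fun x => by
      let z := μ (x ⊗ₜ[R] (1 : S))
      let W : S ⊗[R] S := ∑ k, w' k * (1 ⊗ₜ π k z)
      have hz : z = ∑ k, b k ⊗ₜ[R] π k z := by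
        clear_value z
        induction z using TensorProduct.induction_on with
        | zero => simp
        | tmul h t =>
          conv_lhs => rw [← b.sum_repr h, TensorProduct.sum_tmul]
          exact Finset.sum_congr rfl fun k _ => by rw [hπ, TensorProduct.smul_tmul]; rfl
        | add z z' hz hz' =>
          conv_lhs => rw [hz, hz', ← Finset.sum_add_distrib]
          exact Finset.sum_congr rfl fun k _ => by rw [map_add, TensorProduct.tmul_add]
      have hμW : μ (W - g i ^ P • (x ⊗ₜ[R] (1 : S))) = 0 := by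
        rw [map_sub, map_sum, map_smul, sub_eq_zero]
        show _ = g i ^ P • z
        conv_rhs => rw [hz, Finset.smul_sum]
        refine Finset.sum_congr rfl fun k _ => ?_
        rw [map_mul, hμ, map_smul, show μ (w k) = _ from hw k, hP k, ← mul_smul, smul_mul_assoc,
          Algebra.TensorProduct.tmul_mul_tmul, mul_one, one_mul]
      obtain ⟨q, hq⟩ := (hμb i).ker _ hμW
      refine ⟨q, ?_⟩
      have h := congrArg Gt hq
      rw [map_smul, map_sub, map_smul, map_zero, map_sum,
        show Gt (x ⊗ₜ[R] (1 : S)) = G x by simp [Gt]] at h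
      rw [hΦ]
      refine Eq.trans ?_ h
      congr 2
      exact Finset.sum_congr rfl fun k _ => (hGt (w' k) _).symm
    choose q hq using fun k => hx (ψ (Pi.single k 1))
    let Q := Finset.univ.sup q
    have hlin : (g i ^ Q • (Φ F - g i ^ P • G)).comp ψ = 0 := LinearMap.pi_ext' fun k => LinearMap.ext_ring (by
      show g i ^ Q • (Φ F (ψ (Pi.single k 1)) - g i ^ P • G (ψ (Pi.single k 1))) = 0
      rw [show g i ^ Q = g i ^ (Q - q k) * g i ^ q k by
        rw [← pow_add, Nat.sub_add_cancel (Finset.le_sup (Finset.mem_univ k))], mul_smul, hq, smul_zero])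
    refine ⟨N + Q + P, g i ^ (N + Q) • F, LinearMap.ext fun x => ?_⟩
    have h := LinearMap.congr_fun hlin (φ x)
    rw [LinearMap.comp_apply, hψ, LinearMap.zero_apply, map_smul] at h
    rw [map_smul, LinearMap.smul_apply, LinearMap.smul_apply, ← sub_eq_zero, ← h, LinearMap.smul_apply,
      LinearMap.sub_apply, LinearMap.smul_apply, smul_sub, smul_sub, ← mul_smul, ← mul_smul, ← mul_smul,
      ← pow_add, ← pow_add]
  · have hzero : ∀ w, Ft F (μ w) = 0 := fun w => by
      induction w using TensorProduct.induction_on with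
      | zero => simp
      | tmul x s => rw [hFt, hF, LinearMap.zero_apply, zero_mul]
      | add a c ha hc => rw [map_add, map_add, ha, hc, add_zero]
    choose p w hw using fun k => (hμb i).surj (b k ⊗ₜ[R] (1 : S))
    refine ⟨Finset.univ.sup p, funext fun k => ?_⟩
    show g i ^ _ • F k = 0
    have : g i ^ p k • F k = 0 := by
      rw [← hFb F k, ← map_smul, ← hw k]
      exact hzero (w k)
    rw [show g i ^ Finset.univ.sup p = g i ^ (Finset.univ.sup p - p k) * g i ^ p k by
      rw [← pow_add, Nat.sub_add_cancel (Finset.le_sup (Finset.mem_univ k))], mul_smul, this, smul_zero]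

/-- A pushout of rings is a tensor product. -/
theorem bijective_productMap {R A B C : Type u} [CommRing R] [CommRing A] [CommRing B] [CommRing C]
    [Algebra R A] [Algebra R B] [Algebra R C] (a : A →ₐ[R] C) (b : B →ₐ[R] C)
    (h : IsPushout (CommRingCat.ofHom (algebraMap R A)) (CommRingCat.ofHom (algebraMap R B))
      (CommRingCat.ofHom a.toRingHom) (CommRingCat.ofHom b.toRingHom)) :
    Function.Bijective (Algebra.TensorProduct.productMap a b) := by
  let T := CommRingCat.isPushout_tensorProduct R A B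
  have he : (T.isoIsPushout _ _ h).hom =
      CommRingCat.ofHom (Algebra.TensorProduct.productMap a b).toRingHom := by
    refine T.hom_ext ?_ ?_
    · rw [T.inl_isoIsPushout_hom]
      ext x
      simp
    · rw [T.inr_isoIsPushout_hom]
      ext x
      simp
  have hb := ConcreteCategory.bijective_of_isIso (T.isoIsPushout _ _ h).hom
  rw [he] at hb
  exact hb

end Alg

section Sections

variable {X Y Y' : Scheme.{u}} {V : X.Opens}

/-- Pullback of sections along a morphism over `X`. -/
def secMap {q : Y ⟶ X} {q' : Y' ⟶ X} (r : Y' ⟶ Y) (w : r ≫ q = q') (V : X.Opens) :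
    Sec q V →ₐ[Γ(X, V)] Sec q' V :=
  { (r.appLE (q ⁻¹ᵁ V) (q' ⁻¹ᵁ V) (by subst w; exact le_rfl)).hom with
    commutes' := fun t => by
      subst w
      have h := ConcreteCategory.congr_hom
        (Scheme.Hom.appLE_comp_appLE r q V (q ⁻¹ᵁ V) ((r ≫ q) ⁻¹ᵁ V) le_rfl le_rfl) t
      rw [← Scheme.Hom.app_eq_appLE, ← Scheme.Hom.app_eq_appLE] at h
      exact h }

theorem secMap_comp {Y'' : Scheme.{u}} {q : Y ⟶ X} {q' : Y' ⟶ X} {q'' : Y'' ⟶ X} (r : Y' ⟶ Y)
    (w : r ≫ q = q') (r' : Y'' ⟶ Y') (w' : r' ≫ q' = q'') (V : X.Opens) :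
    (secMap r' w' V).comp (secMap r w V) = secMap (r' ≫ r) (by rw [Category.assoc, w, w']) V :=
  AlgHom.ext fun x => by
    show r'.appLE _ _ _ (r.appLE _ _ _ x) = (r' ≫ r).appLE _ _ _ x
    rw [← ConcreteCategory.comp_apply, Scheme.Hom.appLE_comp_appLE]

theorem secMap_congr {q : Y ⟶ X} {q' : Y' ⟶ X} {r r' : Y' ⟶ Y} (h : r = r') (w : r ≫ q = q') (V : X.Opens) :
    secMap r w V = secMap r' (h ▸ w) V := by
  subst h; rfl

theorem bijective_secMap_of_isIso {q : Y ⟶ X} {q' : Y' ⟶ X} (r : Y' ⟶ Y) [IsIso r] (w : r ≫ q = q') :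
    Function.Bijective (secMap r w V) := by
  subst w
  show Function.Bijective (r.appLE (q ⁻¹ᵁ V) ((r ≫ q) ⁻¹ᵁ V) _)
  rw [show r.appLE (q ⁻¹ᵁ V) ((r ≫ q) ⁻¹ᵁ V) le_rfl = r.app (q ⁻¹ᵁ V) from (Scheme.Hom.app_eq_appLE r).symm]
  haveI : IsIso (r.app (q ⁻¹ᵁ V)) := Scheme.Hom.isIso_app r _ (by rw [Scheme.Hom.opensRange_of_isIso]; exact le_top)
  exact ConcreteCategory.bijective_of_isIso (r.app (q ⁻¹ᵁ V))

theorem secMap_resD {q : Y ⟶ X} {q' : Y' ⟶ X} (r : Y' ⟶ Y) (w : r ≫ q = q') (g : Γ(X, V)) (x : Sec q V) :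
    resD q' g (secMap r w V x) = secMap r w (X.basicOpen g) (resD q g x) := by
  show (r.appLE _ _ _ ≫ Y'.presheaf.map _) x = (Y.presheaf.map _ ≫ r.appLE _ _ _) x
  rw [Scheme.Hom.appLE_map, Scheme.Hom.map_appLE]

/-- Restriction between sections on opens is a localisation, with target seen as `Sec`. -/
def resS (q : Y ⟶ X) (g : Γ(X, V)) : Sec q V →+* Sec q (X.basicOpen g) := resD q g

theorem exists_basis_basic {Gh : Y ⟶ X} [IsFinite Gh] [Flat Gh] [LocallyOfFinitePresentation Gh]
    (hV : IsAffineOpen V) {z : X} (hz : z ∈ V) :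
    ∃ (f : Γ(X, V)) (n : ℕ), z ∈ X.basicOpen f ∧
      Nonempty (Module.Basis (Fin n) Γ(X, X.basicOpen f) (Sec Gh (X.basicOpen f))) := by
  classical
  let R := Γ(X, V)
  let M := Sec Gh V
  haveI : Module.Finite R M := IsFinite.finite_app (f := Gh) V hV
  haveI : Module.Flat R M := by
    have h := Gh.flat_appLE hV (hV.preimage Gh) le_rfl
    simp [Scheme.Hom.appLE] at h
    exact h
  haveI : Algebra.FinitePresentation R M := by
    have h := HasRingHomProperty.appLE @LocallyOfFinitePresentation Gh inferInstance ⟨_, hV⟩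
      ⟨_, hV.preimage Gh⟩ le_rfl
    simp [Scheme.Hom.appLE] at h
    exact h
  haveI : Module.FinitePresentation R M := Module.FinitePresentation.of_finite_of_finitePresentation _ _
  let p := (hV.primeIdealOf ⟨z, hz⟩).asIdeal
  let Rp := Localization.AtPrime p
  let Mp := LocalizedModule p.primeCompl M
  haveI : Module.Finite Rp Mp := Module.Finite.of_isLocalizedModule p.primeCompl (LocalizedModule.mkLinearMap p.primeCompl M)
  haveI : Module.Flat Rp Mp := inferInstance
  haveI : Module.Free Rp Mp := Module.free_of_flat_of_isLocalRing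
  let n := Module.finrank Rp Mp
  let ν : (Fin n → R) →ₗ[R] (Fin n → Rp) := (Algebra.linearMap R Rp).compLeft _
  haveI : IsLocalizedModule p.primeCompl ν :=
    IsLocalizedModule.pi p.primeCompl fun _ : Fin n => Algebra.linearMap R Rp
  obtain ⟨r, hr, e, -⟩ := Module.FinitePresentation.exists_lift_equiv_of_isLocalizedModule p.primeCompl
    (LocalizedModule.mkLinearMap p.primeCompl M) ν ((Module.finBasis Rp Mp).equivFun.restrictScalars R)
  let A := Γ(X, X.basicOpen r)
  haveI : IsLocalization.Away r A := hV.isLocalization_basicOpen r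
  haveI hres : IsLocalizedModule (Submonoid.powers r) (resDₐ Gh r).toLinearMap := isLocalizedModule_resD Gh r hV
  let νA : (Fin n → R) →ₗ[R] (Fin n → A) := (Algebra.linearMap R A).compLeft _
  haveI : IsLocalizedModule (Submonoid.powers r) νA :=
    IsLocalizedModule.pi (Submonoid.powers r) fun _ : Fin n => Algebra.linearMap R A
  let eR : SecD Gh r ≃ₗ[R] (Fin n → A) :=
    (IsLocalizedModule.iso (Submonoid.powers r) (resDₐ Gh r).toLinearMap).symm ≪≫ₗ e.restrictScalars R ≪≫ₗ
      IsLocalizedModule.iso (Submonoid.powers r) νA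
  let eA : SecD Gh r ≃ₗ[A] (Fin n → A) :=
    { __ := eR, toLinearMap := eR.toLinearMap.extendScalarsOfIsLocalization (Submonoid.powers r) A }
  refine ⟨r, n, ?_, ⟨Module.Basis.ofEquivFun eA⟩⟩
  by_contra hnot
  refine hr ?_
  have := hV.fromSpec_primeIdealOf ⟨z, hz⟩
  by_contra hrp
  refine hnot ((congrArg (· ∈ X.basicOpen r) this).mp ?_)
  show hV.primeIdealOf ⟨z, hz⟩ ∈ hV.fromSpec ⁻¹ᵁ X.basicOpen r
  rw [hV.fromSpec_preimage_basicOpen]
  exact hrp

variable {P G : Scheme.{u}} (Gh : G ⟶ X) (q : P ⟶ X)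

/-- The endomorphism presentation of the sections of a torsor. -/
theorem exists_endPres_sec [IsAffineHom Gh] [Flat Gh] [QuasiCompact q] [QuasiSeparated q]
    (hV : IsAffineOpen V) {ι : Type u} [Finite ι] (gs : ι → Γ(X, V))
    (haff : ∀ i, IsAffineOpen (q ⁻¹ᵁ X.basicOpen (gs i)))
    {n : ℕ} (b : Module.Basis (Fin n) Γ(X, V) (Sec Gh V))
    (e : pullback Gh q ≅ pullback q q) (he : e.hom ≫ pullback.snd q q = pullback.snd Gh q)
    (hfree : ∀ i, FreeAway (Sec q V) (gs i)) :
    ∃ Φ : (Fin n → Sec q V) →ₗ[Γ(X, V)] Module.End Γ(X, V) (Sec q V), ∀ i, AwayBij (gs i) Φ := by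
  let R := Γ(X, V)
  let S := Sec q V
  let H := Sec Gh V
  let r₁ : pullback Gh q ⟶ X := pullback.snd Gh q ≫ q
  let r₂ : pullback q q ⟶ X := pullback.snd q q ≫ q
  let T₁ := Sec r₁ V
  let T₂ := Sec r₂ V
  let iG : H →ₐ[R] T₁ := secMap (pullback.fst Gh q) pullback.condition V
  let iS : S →ₐ[R] T₁ := secMap (pullback.snd Gh q) rfl V
  have hι : Function.Bijective (Algebra.TensorProduct.productMap iS iG) := by
    refine bijective_productMap iS iG ?_
    have hUY : r₁ ⁻¹ᵁ V = pullback.snd Gh q ⁻¹ᵁ (q ⁻¹ᵁ V) ⊓ pullback.fst Gh q ⁻¹ᵁ (Gh ⁻¹ᵁ V) := by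
      rw [← Scheme.Hom.comp_preimage, ← Scheme.Hom.comp_preimage, pullback.condition, inf_idem]
    have hiso := isIso_pushoutSection_of_isQuasiSeparated_of_flat_right
      (IsPullback.of_hasPullback Gh q).flip (US := V) (UT := Gh ⁻¹ᵁ V) (UX := q ⁻¹ᵁ V) le_rfl le_rfl hUY hV
      (hV.preimage Gh) (q.isCompact_preimage hV.isCompact) (q.isQuasiSeparated_preimage hV.isQuasiSeparated)
    have h := (isIso_pushoutSection_iff ..).1 hiso
    rw [← Scheme.Hom.app_eq_appLE, ← Scheme.Hom.app_eq_appLE] at h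
    exact h
  let ι' : H ⊗[R] S ≃ₐ[R] T₁ := (Algebra.TensorProduct.comm R H S).trans (AlgEquiv.ofBijective _ hι)
  let f₂ : S →ₐ[R] T₂ := secMap (pullback.fst q q) pullback.condition V
  let s₂ : S →ₐ[R] T₂ := secMap (pullback.snd q q) rfl V
  have hwe : e.hom ≫ r₂ = r₁ := by rw [← Category.assoc, he]
  let eS : T₂ →ₐ[R] T₁ := secMap e.hom hwe V
  let c₂ : S ⊗[R] S →ₐ[R] T₂ := Algebra.TensorProduct.productMap f₂ s₂
  let μ : S ⊗[R] S →ₐ[R] H ⊗[R] S := (ι'.symm.toAlgHom.comp eS).comp c₂
  refine exists_endPres gs b μ (fun s => ?_) (fun i => ?_) hfree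
  · show ι'.symm (eS (c₂ ((1 : S) ⊗ₜ s))) = _
    rw [AlgEquiv.symm_apply_eq]
    show _ = Algebra.TensorProduct.productMap iS iG (s ⊗ₜ[R] (1 : H))
    rw [Algebra.TensorProduct.productMap_right_apply, Algebra.TensorProduct.productMap_left_apply]
    show ((secMap e.hom hwe V).comp s₂) s = iS s
    rw [secMap_comp, secMap_congr he]
  · refine AwayBij.comp (f := c₂.toLinearMap) (f' := ι'.symm.toLinearMap.comp eS.toLinearMap)
      (AwayBij.of_bijective _ (ι'.symm.bijective.comp (bijective_secMap_of_isIso e.hom hwe))) ?_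
    -- compare on the basic open
    let g := gs i
    let D := X.basicOpen g
    let SD := SecD q g
    let TD := SecD r₂ g
    let fD : SD →+* TD := (secMap (pullback.fst q q) pullback.condition D).toRingHom
    let sD : SD →+* TD := (secMap (pullback.snd q q) (rfl : _ = r₂) D).toRingHom
    have hfD : ∀ x, fD (resD q g x) = resD r₂ g (f₂ x) := fun x => (secMap_resD _ _ g x).symm
    have hsD : ∀ x, sD (resD q g x) = resD r₂ g (s₂ x) := fun x => (secMap_resD _ _ g x).symm
    have hfc : ∀ t, fD (algebraMap R SD t) = algebraMap R TD t := fun t => by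
      show fD (resD q g (algebraMap R S t)) = resD r₂ g (algebraMap R T₂ t)
      rw [hfD, AlgHom.commutes]
    have hsc : ∀ t, sD (algebraMap R SD t) = algebraMap R TD t := fun t => by
      show sD (resD q g (algebraMap R S t)) = resD r₂ g (algebraMap R T₂ t)
      rw [hsD, AlgHom.commutes]
    let fDₐ : SD →ₐ[R] TD := { fD with commutes' := hfc }
    let sDₐ : SD →ₐ[R] TD := { sD with commutes' := hsc }
    let cD : SD ⊗[R] SD →ₐ[R] TD := Algebra.TensorProduct.productMap fDₐ sDₐ
    have hD : IsAffineOpen D := hV.basicOpen g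
    have hcD : Function.Bijective cD := by
      haveI : IsLocalization.Away g Γ(X, D) := hV.isLocalization_basicOpen g
      have hbij : Function.Bijective (Algebra.TensorProduct.productMap
          (secMap (pullback.fst q q) (pullback.condition : _ = r₂) D)
          (secMap (pullback.snd q q) (rfl : _ = r₂) D)) := by
        refine bijective_productMap _ _ ?_
        have hUY : r₂ ⁻¹ᵁ D = pullback.fst q q ⁻¹ᵁ (q ⁻¹ᵁ D) ⊓ pullback.snd q q ⁻¹ᵁ (q ⁻¹ᵁ D) := by
          rw [← Scheme.Hom.comp_preimage, ← Scheme.Hom.comp_preimage, pullback.condition, inf_idem]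
        have h := (isIso_pushoutSection_iff ..).1 (isIso_pushoutSection_of_isAffineOpen
          (IsPullback.of_hasPullback q q) (US := D) (UT := q ⁻¹ᵁ D) (UX := q ⁻¹ᵁ D) le_rfl le_rfl hUY hD
          (haff i) (haff i))
        rw [← Scheme.Hom.app_eq_appLE] at h
        exact h
      haveI := IsLocalization.tensorProduct_compatibleSMul (Submonoid.powers g) Γ(X, D) SD SD
      let E : SD ⊗[R] SD ≃ₗ[R] SD ⊗[Γ(X, D)] SD :=
        TensorProduct.equivOfCompatibleSMul Γ(X, D) R R SD SD
      let pD := Algebra.TensorProduct.productMap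
          (secMap (pullback.fst q q) (pullback.condition : _ = r₂) D)
          (secMap (pullback.snd q q) (rfl : _ = r₂) D)
      have hEc : ∀ z, cD z = pD (E z) := fun z => by
        induction z using TensorProduct.induction_on with
        | zero => exact (map_zero cD).trans ((congrArg pD (map_zero E)).trans (map_zero pD)).symm
        | tmul x y => rfl
        | add a c ha hc =>
          exact (map_add cD a c).trans ((congrArg₂ (· + ·) ha hc).trans
            ((congrArg pD (map_add E a c)).trans (map_add pD _ _)).symm)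
      exact (funext hEc : (cD : _ → _) = _) ▸ hbij.comp E.bijective
    have hl : IsLocalizedModule (Submonoid.powers g) (resDₐ q g).toLinearMap := isLocalizedModule_resD q g hV
    haveI : QuasiCompact r₂ := inferInstance
    haveI : QuasiSeparated r₂ := inferInstance
    have hl₂ : IsLocalizedModule (Submonoid.powers g) (resDₐ r₂ g).toLinearMap :=
      isLocalizedModule_resD r₂ g hV
    let ρρ := TensorProduct.map (resDₐ q g).toLinearMap (resDₐ q g).toLinearMap
    have hl₁ : IsLocalizedModule (Submonoid.powers g) ρρ := inferInstance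
    have hcomm : ∀ z, resD r₂ g (c₂ z) = cD (ρρ z) := fun z => by
      induction z using TensorProduct.induction_on with
      | zero => simp
      | tmul x y =>
        show resD r₂ g (f₂ x * s₂ y) = fD (resD q g x) * sD (resD q g y)
        rw [map_mul, hfD, hsD]
      | add a c ha hc => rw [map_add, map_add, ha, hc, map_add, map_add]
    refine ⟨fun y => ?_, fun z hz => ?_⟩
    · obtain ⟨w, hw⟩ := hcD.2 (resD r₂ g y)
      obtain ⟨⟨v, ⟨_, a, rfl⟩⟩, hv⟩ := hl₁.surj w
      have : resD r₂ g (c₂ v) = resD r₂ g (g ^ a • y) := by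
        rw [hcomm, show ρρ v = g ^ a • w from hv.symm, map_smul, hw]
        exact ((resDₐ r₂ g).toLinearMap.map_smul _ _).symm
      obtain ⟨⟨_, k, rfl⟩, hk⟩ := hl₂.exists_of_eq (x₁ := c₂ v) (x₂ := g ^ a • y) this
      refine ⟨k + a, g ^ k • v, ?_⟩
      show c₂ (g ^ k • v) = _
      rw [map_smul, pow_add, mul_smul]
      exact hk
    · have h0 : ρρ z = 0 := hcD.1 (by rw [← hcomm, show c₂ z = 0 from hz, map_zero, map_zero])
      obtain ⟨⟨_, k, rfl⟩, hk⟩ := (IsLocalizedModule.eq_zero_iff (Submonoid.powers g) ρρ).1 h0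
      exact ⟨k, hk⟩

end Sections

end Groth.Agent.NonAbLib.Extend
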