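import Groth.Agent.NonAbLib.Extend.Away
import Groth.Agent.RegUFD.Basic

/-!
# Regular local rings and reflexivity for modules determined away from codimension two
-/

set_option autoImplicit false

universe u v

open TensorProduct IsLocalRing

noncomputable section

namespace Groth.Agent.NonAbLib.Extend

variable {A : Type u} [CommRing A] {ι : Type*}

/-- Hartogs for factorial rings. -/
theorem gloc_self_of_prime [IsDomain A] [UniqueFactorizationMonoid A] (g : ι → A) (h0 : ∃ i, g i ≠ 0)
    (hp : ∀ π : A, Prime π → ∃ i, ¬ π ∣ g i) : GLoc g A := by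
  obtain ⟨a, ha⟩ := h0
  refine ⟨fun m hm => ?_, fun N m hm => ?_⟩
  · obtain ⟨n, hn⟩ := hm a
    exact (mul_eq_zero.1 hn).resolve_left (pow_ne_zero n ha)
  · obtain ⟨b, c, d, hrel, hb, hc⟩ :=
      UniqueFactorizationMonoid.exists_reduced_factors (g a ^ N) (pow_ne_zero N ha) (m a)
    have hd0 : d ≠ 0 := fun h => pow_ne_zero N ha (by rw [← hb, h, zero_mul])
    have hbu : IsUnit b := by
      by_contra hbn
      have hb0 : b ≠ 0 := fun h => pow_ne_zero N ha (by rw [← hb, h, mul_zero])
      obtain ⟨π, hπ, hπb⟩ := WfDvdMonoid.exists_irreducible_factor hbn hb0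
      obtain ⟨i, hi⟩ := hp π hπ.prime
      have h1 : g i ^ N * c = b * m i := mul_left_cancel₀ hd0 <| by
        have := hm i a
        simp only [smul_eq_mul] at this
        rw [← hb, ← hc] at this
        linear_combination (-1 : A) * this
      have h2 : π ∣ g i ^ N * c := h1 ▸ dvd_mul_of_dvd_left hπb _
      rcases hπ.prime.dvd_or_dvd h2 with h | h
      · exact hi (hπ.prime.dvd_of_dvd_pow h)
      · exact hπ.not_isUnit (hrel hπb h)
    obtain ⟨b, rfl⟩ := hbu
    refine ⟨(↑b⁻¹ : A) * c, fun i => mul_left_cancel₀ (pow_ne_zero N ha) ?_⟩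
    have := hm i a
    simp only [smul_eq_mul] at this ⊢
    have hac : g a ^ N * ((↑b⁻¹ : A) * c) = m a := by
      rw [← hb, ← hc]
      linear_combination (d * c) * b.mul_inv
    rw [mul_left_comm, hac, this]

/-- Hartogs for regular local rings. -/
theorem gloc_self [IsRegularLocalRing A] (g : ι → A)
    (hg : ∀ p : Ideal A, p.IsPrime → (∀ i, g i ∈ p) → (2 : ℕ∞) ≤ p.height) : GLoc g A := by
  haveI := Groth.Agent.RegLoc6.isDomain_of_isRegularLocalRing A
  haveI := (Groth.Agent.RegUFD.ufd A).2
  refine gloc_self_of_prime g ?_ fun π hπ => ?_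
  · by_contra! h
    have := hg ⊥ Ideal.isPrime_bot fun i => by rw [h i]; exact zero_mem _
    rw [Ideal.height_bot] at this
    simp at this
  · by_contra! h
    haveI hP : (Ideal.span {π}).IsPrime := (Ideal.span_singleton_prime hπ.ne_zero).2 hπ
    have h1 := hg (Ideal.span {π}) hP fun i => Ideal.mem_span_singleton.2 (h i)
    haveI : (Ideal.span {π}).IsPrincipal := ⟨π, rfl⟩
    have h2 : (Ideal.span {π}).height ≤ 1 :=
      Ideal.height_le_one_of_isPrincipal_of_mem_minimalPrimes (Ideal.span {π}) (Ideal.span {π})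
        ⟨⟨hP, le_rfl⟩, fun q hq _ => hq.2⟩
    exact absurd (h1.trans h2) (by norm_num)

section DoubleDual

variable {M : Type u} [AddCommGroup M] [Module A M]

/-- The evaluation into the bidual is bijective where the module is free. -/
theorem awayBij_eval {a : A} (h : FreeAway M a) : AwayBij a (Module.Dual.eval A M) := by
  classical
  obtain ⟨N, r, φ, ψ, h⟩ := h
  let α : Fin r → Module.Dual A M := fun k => (LinearMap.proj k).comp φ
  have hdec : ∀ f : Module.Dual A M, a ^ N • f = ∑ k, f (ψ (Pi.single k 1)) • α k := fun f => by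
    refine LinearMap.ext fun m => ?_
    rw [LinearMap.smul_apply, ← map_smul, ← h, pi_eq_sum_univ' (φ m), map_sum, map_sum, LinearMap.sum_apply]
    refine Finset.sum_congr rfl fun k _ => ?_
    rw [map_smul, map_smul, LinearMap.smul_apply, smul_eq_mul, smul_eq_mul, mul_comm]
    rfl
  refine ⟨fun ξ => ⟨N, ψ fun k => ξ (α k), LinearMap.ext fun f => ?_⟩, fun m hm => ⟨N, ?_⟩⟩
  · rw [Module.Dual.eval_apply, LinearMap.smul_apply, ← map_smul, hdec, map_sum,
      pi_eq_sum_univ' (fun k => ξ (α k)), map_sum, map_sum]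
    refine Finset.sum_congr rfl fun k _ => ?_
    rw [map_smul, map_smul, map_smul, smul_eq_mul, smul_eq_mul, mul_comm]
  · rw [← h, show φ m = 0 from funext fun k => LinearMap.congr_fun hm (α k), map_zero]

/-- The bidual is free where the module is. -/
theorem freeAway_bidual {a : A} (h : FreeAway M a) : FreeAway (Module.Dual A (Module.Dual A M)) a := by
  classical
  obtain ⟨N, r, φ, ψ, h⟩ := h
  refine ⟨N, r, LinearMap.pi fun k => LinearMap.applyₗ ((LinearMap.proj k).comp φ),
    (Module.Dual.eval A M).comp ψ, fun ξ => ?_⟩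
  refine LinearMap.ext fun f => ?_
  have hdec : a ^ N • f = ∑ k, f (ψ (Pi.single k 1)) • (LinearMap.proj k).comp φ := by
    refine LinearMap.ext fun m => ?_
    rw [LinearMap.smul_apply, ← map_smul, ← h, pi_eq_sum_univ' (φ m), map_sum, map_sum, LinearMap.sum_apply]
    refine Finset.sum_congr rfl fun k _ => ?_
    rw [map_smul, map_smul, LinearMap.smul_apply, smul_eq_mul, smul_eq_mul, mul_comm]
    rfl
  rw [LinearMap.comp_apply, Module.Dual.eval_apply, LinearMap.smul_apply, ← map_smul, hdec, map_sum,
    pi_eq_sum_univ' ((LinearMap.pi fun k => LinearMap.applyₗ ((LinearMap.proj k).comp φ)) ξ), map_sum, map_sum]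
  refine Finset.sum_congr rfl fun k _ => ?_
  rw [map_smul, map_smul, map_smul, smul_eq_mul, smul_eq_mul, mul_comm]
  rfl

theorem finite_dual [IsNoetherianRing A] [Module.Finite A M] : Module.Finite A (Module.Dual A M) := by
  obtain ⟨q, π, hπ⟩ := Module.Finite.exists_fin' A M
  exact Module.Finite.of_injective π.dualMap (LinearMap.dualMap_injective_of_surjective hπ)

/-- Modules determined away from a closed subset are torsion free if the ring is. -/
theorem GLoc.eq_zero_of_smul [IsDomain A] {g : ι → A} (hM : GLoc g M) (hfree : ∀ i, FreeAway M (g i))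
    {c : A} (hc : c ≠ 0) {m : M} (h : c • m = 0) : m = 0 :=
  hM.inj m fun i => by
    obtain ⟨N, r, φ, ψ, hψ⟩ := hfree i
    refine ⟨N, ?_⟩
    have : c • φ m = 0 := by rw [← map_smul, h, map_zero]
    rw [← hψ, (smul_eq_zero.1 this).resolve_left hc, map_zero]

/-- Modules determined away from a closed subset, free there, are finite. -/
theorem GLoc.finite [IsNoetherianRing A] [Finite ι] {g : ι → A} (hM : GLoc g M)
    (hfree : ∀ i, FreeAway M (g i)) : Module.Finite A M := by
  cases nonempty_fintype ι
  choose N r φ ψ h using hfree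
  refine Module.Finite.of_injective (LinearMap.pi φ) ((injective_iff_map_eq_zero _).2 fun m hm =>
    hM.inj m fun i => ⟨N i, ?_⟩)
  rw [← h, show φ i m = 0 from congrFun hm i, map_zero]

end DoubleDual

end Groth.Agent.NonAbLib.Extend
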