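import Groth.Agent.NonAbLib.Extend.Approx
import Groth.Agent.NonAbLib.Extend.Away

/-!
# Sections of a scheme over `X` on the preimages of affine opens
-/

set_option autoImplicit false

universe u

open CategoryTheory CategoryTheory.Limits AlgebraicGeometry TopologicalSpace Opposite TensorProduct

noncomputable section

namespace Groth.Agent.NonAbLib.Extend

variable {X Y : Scheme.{u}} (q : Y ⟶ X) (V : X.Opens)

/-- The sections over `q ⁻¹ V`. -/
def Sec : Type u := Γ(Y, q ⁻¹ᵁ V)

instance : CommRing (Sec q V) := inferInstanceAs (CommRing Γ(Y, q ⁻¹ᵁ V))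

instance : Algebra Γ(X, V) (Sec q V) := (q.app V).hom.toAlgebra

theorem algebraMap_sec (r : Γ(X, V)) : algebraMap Γ(X, V) (Sec q V) r = q.app V r := rfl

variable {V} (g : Γ(X, V))

theorem basic_le : q ⁻¹ᵁ X.basicOpen g ≤ q ⁻¹ᵁ V := q.preimage_mono (X.basicOpen_le g)

/-- The sections over `q ⁻¹ D(g)`. -/
def SecD : Type u := Γ(Y, q ⁻¹ᵁ X.basicOpen g)

instance : CommRing (SecD q g) := inferInstanceAs (CommRing Γ(Y, q ⁻¹ᵁ X.basicOpen g))

instance : Algebra Γ(X, X.basicOpen g) (SecD q g) := (q.app (X.basicOpen g)).hom.toAlgebra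

/-- Restriction. -/
def resD : Sec q V →+* SecD q g := (Y.presheaf.map (homOfLE (basic_le q g)).op).hom

instance : Algebra Γ(X, V) (SecD q g) := ((resD q g).comp (algebraMap Γ(X, V) (Sec q V))).toAlgebra

instance : IsScalarTower Γ(X, V) Γ(X, X.basicOpen g) (SecD q g) := IsScalarTower.of_algebraMap_eq fun r => by
  show Y.presheaf.map (homOfLE (basic_le q g)).op (q.app V r) =
    q.app (X.basicOpen g) (X.presheaf.map (homOfLE (X.basicOpen_le g)).op r)
  exact (ConcreteCategory.congr_hom (q.naturality (homOfLE (X.basicOpen_le g)).op) r).symm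

/-- Restriction as an algebra map. -/
def resDₐ : Sec q V →ₐ[Γ(X, V)] SecD q g := { resD q g with commutes' := fun _ => rfl }

theorem isLocalization_of_basicOpen_eq {U W : Y.Opens} (hU : IsCompact U.1) (hU' : IsQuasiSeparated U.1)
    (f : Γ(Y, U)) (hle : W ≤ U) (he : Y.basicOpen f = W) :
    @IsLocalization.Away Γ(Y, U) _ f Γ(Y, W) _ (Y.presheaf.map (homOfLE hle).op).hom.toAlgebra := by
  subst he
  exact isLocalization_basicOpen_of_qcqs hU hU' f

theorem isLocalizedModule_resD [QuasiCompact q] [QuasiSeparated q] (hV : IsAffineOpen V) :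
    IsLocalizedModule (Submonoid.powers g) (resDₐ q g).toLinearMap := by
  letI : Algebra (Sec q V) (SecD q g) := (resD q g).toAlgebra
  haveI : IsScalarTower Γ(X, V) (Sec q V) (SecD q g) := IsScalarTower.of_algebraMap_eq fun _ => rfl
  haveI : IsLocalization (Algebra.algebraMapSubmonoid (Sec q V) (Submonoid.powers g)) (SecD q g) := by
    rw [Algebra.algebraMapSubmonoid_powers]
    show @IsLocalization.Away Γ(Y, q ⁻¹ᵁ V) _ (q.app V g) Γ(Y, q ⁻¹ᵁ X.basicOpen g) _
      (Y.presheaf.map (homOfLE (basic_le q g)).op).hom.toAlgebra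
    exact isLocalization_of_basicOpen_eq (q.isCompact_preimage hV.isCompact)
      (q.isQuasiSeparated_preimage hV.isQuasiSeparated) (q.app V g) (basic_le q g) (Scheme.preimage_basicOpen q g).symm
  exact (isLocalizedModule_iff_isLocalization (S := Submonoid.powers g)).2 inferInstance

variable {ι : Type u} (gs : ι → Γ(X, V))

/-- The sheaf property as `GLoc`. -/
theorem gloc_sec [Finite ι] [QuasiCompact q] [QuasiSeparated q] (hV : IsAffineOpen V)
    (hcov : ∀ y : Y, q y ∈ V → ∃ i, q y ∈ X.basicOpen (gs i)) : GLoc gs (Sec q V) := by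
  have hD : ∀ i, IsLocalizedModule (Submonoid.powers (gs i)) (resDₐ q (gs i)).toLinearMap :=
    fun i => isLocalizedModule_resD q (gs i) hV
  have hker : ∀ i (m : Sec q V), resD q (gs i) m = 0 → ∃ n : ℕ, gs i ^ n • m = 0 := fun i m hm => by
    obtain ⟨⟨_, n, rfl⟩, hn⟩ :=
      (IsLocalizedModule.eq_zero_iff (Submonoid.powers (gs i)) (resDₐ q (gs i)).toLinearMap).1 hm
    exact ⟨n, hn⟩
  have hres : ∀ i (n : ℕ) (m : Sec q V),
      resD q (gs i) (gs i ^ n • m) = algebraMap _ (SecD q (gs i)) (gs i) ^ n * resD q (gs i) m := fun i n m => by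
    rw [Algebra.smul_def, map_mul, ← RingHom.comp_apply, map_pow]
    rfl
  have hunit : ∀ i, IsUnit (algebraMap Γ(X, V) (SecD q (gs i)) (gs i)) := fun i => by
    rw [IsScalarTower.algebraMap_apply Γ(X, V) Γ(X, X.basicOpen (gs i)) (SecD q (gs i))]
    exact IsUnit.map _ (RingedSpace.isUnit_res_basicOpen _ (gs i))
  have hinj : ∀ m : Sec q V, (∀ i, resD q (gs i) m = 0) → m = 0 := fun m hm => by
    refine Y.IsSheaf.section_ext fun y hy => ?_
    obtain ⟨i, hi⟩ := hcov y hy
    exact ⟨q ⁻¹ᵁ X.basicOpen (gs i), basic_le q (gs i), hi, (hm i).trans (map_zero _).symm⟩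
  have inj : ∀ m : Sec q V, (∀ i, ∃ n : ℕ, gs i ^ n • m = 0) → m = 0 := fun m hm => hinj m fun i => by
    obtain ⟨n, hn⟩ := hm i
    have h := hres i n m
    rw [hn, map_zero] at h
    exact (hunit i).pow n |>.mul_right_eq_zero.1 h.symm
  refine ⟨inj, fun N m hm => ?_⟩
  choose u hu using fun i => (hunit i).pow N
  let s : ∀ i, SecD q (gs i) := fun i => (↑(u i)⁻¹ : SecD q (gs i)) * resD q (gs i) (m i)
  let W : ι → Y.Opens := fun i => q ⁻¹ᵁ X.basicOpen (gs i)
  have hcompat : TopCat.Presheaf.IsCompatible Y.presheaf W s := fun i j => by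
    let ri : SecD q (gs i) →+* Γ(Y, W i ⊓ W j) := (Y.presheaf.map (Opens.infLELeft (W i) (W j)).op).hom
    let rj : SecD q (gs j) →+* Γ(Y, W i ⊓ W j) := (Y.presheaf.map (Opens.infLERight (W i) (W j)).op).hom
    show ri (s i) = rj (s j)
    have hrr : ri.comp (resD q (gs i)) = rj.comp (resD q (gs j)) := by
      show ((Y.presheaf.map _) ≫ (Y.presheaf.map _)).hom = ((Y.presheaf.map _) ≫ (Y.presheaf.map _)).hom
      rw [← Functor.map_comp, ← Functor.map_comp]
      rfl
    let a : ι → Γ(Y, W i ⊓ W j) := fun k => (ri.comp (resD q (gs i))) (algebraMap _ _ (gs k))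
    have hai : ri (u i : SecD q (gs i)) = a i ^ N := by rw [hu, map_pow]; rfl
    have haj : rj (u j : SecD q (gs j)) = a j ^ N := by
      rw [hu, map_pow]
      show rj (resD q (gs j) _) ^ N = (ri.comp (resD q (gs i))) _ ^ N
      rw [hrr]; rfl
    have key : a j ^ N * ri (resD q (gs i) (m i)) = a i ^ N * ri (resD q (gs i) (m j)) := by
      have := congrArg (ri.comp (resD q (gs i))) (hm i j)
      simpa [a, Algebra.smul_def] using this
    have hiu : IsUnit (a i ^ N) := hai ▸ (u i).isUnit.map ri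
    have hju : IsUnit (a j ^ N) := haj ▸ (u j).isUnit.map rj
    refine hiu.mul_left_cancel (hju.mul_left_cancel ?_)
    have e1 : a i ^ N * ri (s i) = ri (resD q (gs i) (m i)) := by
      rw [← hai, ← map_mul, Units.mul_inv_cancel_left]
    have e2 : a j ^ N * rj (s j) = ri (resD q (gs i) (m j)) := by
      rw [← haj, ← map_mul, Units.mul_inv_cancel_left]
      exact (RingHom.congr_fun hrr (m j)).symm
    rw [e1, mul_left_comm, e2, key]
  obtain ⟨x, hx, -⟩ := TopCat.Sheaf.existsUnique_gluing' ⟨Y.presheaf, Y.IsSheaf⟩ W (q ⁻¹ᵁ V)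
    (fun i => homOfLE (basic_le q (gs i)))
    (fun y hy => Opens.mem_iSup.2 (hcov y hy)) s hcompat
  let x' : Sec q V := x
  refine ⟨x', fun i => sub_eq_zero.1 (inj _ fun j => ?_)⟩
  have hj : resD q (gs j) (gs j ^ N • x' - m j) = 0 := by
    rw [map_sub, hres, show resD q (gs j) x' = s j from hx j, ← hu, Units.mul_inv_cancel_left, sub_self]
  obtain ⟨p, hp⟩ := hker j _ hj
  refine ⟨p + N, ?_⟩
  rw [pow_add, mul_smul, smul_sub (gs j ^ N), hm, smul_comm (gs j ^ N) (gs i ^ N), ← smul_sub, smul_comm, hp,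
    smul_zero]

/-- Sections of a finite flat scheme over the open are `FreeAway`. -/
theorem freeAway_sec [Finite ι] {U : X.Opens} [QuasiCompact U.ι] {P : Scheme.{u}} (p : P ⟶ U) [IsFinite p]
    [Flat p] [LocallyOfFinitePresentation p] (hV : IsAffineOpen V) (hgU : ∀ i, X.basicOpen (gs i) ≤ U)
    (hR : GLoc gs Γ(X, V)) (hM : GLoc gs (Sec (p ≫ U.ι) V)) :
    ∀ i, FreeAway (Sec (p ≫ U.ι) V) (gs i) := by
  let q := p ≫ U.ι
  haveI : ∀ i, IsLocalizedModule (Submonoid.powers (gs i)) (resDₐ q (gs i)).toLinearMap :=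
    fun i => isLocalizedModule_resD q (gs i) hV
  haveI : ∀ i, IsLocalization.Away (gs i) Γ(X, X.basicOpen (gs i)) := fun i => hV.isLocalization_basicOpen (gs i)
  have haff : ∀ i, IsAffineOpen (U.ι ⁻¹ᵁ X.basicOpen (gs i)) := fun i =>
    (hV.basicOpen (gs i)).preimage_of_isOpenImmersion U.ι (by
      rw [Scheme.Opens.opensRange_ι]; exact hgU i)
  have hpaff : ∀ i, IsAffineOpen (q ⁻¹ᵁ X.basicOpen (gs i)) := fun i => (haff i).preimage p
  haveI hfin : ∀ i, Module.Finite Γ(X, X.basicOpen (gs i)) (SecD q (gs i)) := fun i => by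
    show (q.app (X.basicOpen (gs i))).hom.Finite
    haveI : IsIso (U.ι.app (X.basicOpen (gs i))) :=
      Scheme.Hom.isIso_app _ _ (by rw [Scheme.Opens.opensRange_ι]; exact hgU i)
    exact (IsFinite.finite_app (f := p) _ (haff i)).comp
      (RingHom.Finite.of_surjective _ (ConcreteCategory.bijective_of_isIso (U.ι.app (X.basicOpen (gs i)))).2)
  haveI : ∀ i, Module.Flat Γ(X, X.basicOpen (gs i)) (SecD q (gs i)) := fun i => by
    have h := q.flat_appLE (hV.basicOpen (gs i)) (hpaff i) le_rfl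
    simp [Scheme.Hom.appLE] at h
    exact h
  haveI : ∀ i, Algebra.FinitePresentation Γ(X, X.basicOpen (gs i)) (SecD q (gs i)) := fun i => by
    have h := HasRingHomProperty.appLE @LocallyOfFinitePresentation q inferInstance
      ⟨_, hV.basicOpen (gs i)⟩ ⟨_, hpaff i⟩ le_rfl
    simp [Scheme.Hom.appLE] at h
    exact h
  haveI : ∀ i, Module.FinitePresentation Γ(X, X.basicOpen (gs i)) (SecD q (gs i)) := fun i =>
    Module.FinitePresentation.of_finite_of_finitePresentation _ _
  haveI : ∀ i, Module.Projective Γ(X, X.basicOpen (gs i)) (SecD q (gs i)) := fun i =>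
    Module.Flat.projective_of_finitePresentation
  exact freeAway_of_projective hR hM (fun i => Γ(X, X.basicOpen (gs i))) (fun i => SecD q (gs i))
    fun i => (resDₐ q (gs i)).toLinearMap

/-- A finite family cutting out an open in an affine open. -/
theorem exists_family (U : X.Opens) [QuasiCompact U.ι] (hV : IsAffineOpen V) :
    ∃ (κ : Type u) (_ : Finite κ) (f : κ → Γ(X, V)),
      (∀ i, X.basicOpen (f i) ≤ U) ∧ ∀ x, x ∈ U → x ∈ V → ∃ i, x ∈ X.basicOpen (f i) := by
  have hc : IsCompact ((U ⊓ V : X.Opens) : Set X) := by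
    have h := (U.ι.isCompact_preimage hV.isCompact).image U.ι.continuous
    rw [show U.ι '' (U.ι ⁻¹ᵁ V : Set U) = ((U ⊓ V : X.Opens) : Set X) from
      (Set.image_preimage_eq_range_inter).trans (by rw [Scheme.Opens.range_ι]; rfl)] at h
    exact h
  have hx : ∀ x : ((U ⊓ V : X.Opens) : Set X), ∃ f : Γ(X, V), X.basicOpen f ≤ U ∧ (x : X) ∈ X.basicOpen f :=
    fun x => hV.exists_basicOpen_le ⟨x.1, x.2.1⟩ x.2.2
  choose f hf hxf using hx
  obtain ⟨t, ht⟩ := hc.elim_finite_subcover (fun x => (X.basicOpen (f x) : Set X))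
    (fun x => (X.basicOpen (f x)).2) fun x hx => Set.mem_iUnion.2 ⟨⟨x, hx⟩, hxf ⟨x, hx⟩⟩
  refine ⟨(t : Set _), inferInstance, fun i => f i.1, fun i => hf i.1, fun x hxU hxV => ?_⟩
  obtain ⟨i, hi, hxi⟩ := Set.mem_iUnion₂.1 (ht ⟨hxU, hxV⟩)
  exact ⟨⟨i, hi⟩, hxi⟩

end Groth.Agent.NonAbLib.Extend
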