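import Groth.Agent.NonAbLib.Extend.ExtTools

/-!
# Dimension three

Over a three-dimensional regular local ring, a finite torsion-free module of projective dimension at
most one, free on the punctured spectrum, whose endomorphisms form a power of the module, is free:
otherwise the lengths of the first `Ext` groups into the ring do not add up.
-/

set_option autoImplicit false

universe u

open TensorProduct IsLocalRing Groth.Agent.RegLoc6

noncomputable section

namespace Groth.Agent.NonAbLib.Extend

variable {A : Type u} [CommRing A]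

theorem length_fin_pow (M : Type u) [AddCommGroup M] [Module A M] (k : ℕ) :
    Module.length A (Fin k → M) = k * Module.length A M := by
  simp [Module.length_pi_of_fintype]

theorem finrank_fin_pow [IsDomain A] [IsNoetherianRing A] (M : Type u) [AddCommGroup M] [Module A M] [Module.Finite A M] :
    ∀ k : ℕ, Module.finrank A (Fin k → M) = k * Module.finrank A M
  | 0 => by
    rw [zero_mul]
    exact Module.finrank_zero_of_subsingleton
  | k + 1 => by
    rw [← (Fin.consLinearEquiv A fun _ : Fin (k + 1) => M).finrank_eq,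
      ← Submodule.finrank_quotient_add_finrank (LinearMap.ker (LinearMap.fst A M (Fin k → M))),
      (LinearMap.quotKerEquivOfSurjective _ (fun m => ⟨(m, 0), rfl⟩)).finrank_eq]
    have e : LinearMap.ker (LinearMap.fst A M (Fin k → M)) ≃ₗ[A] (Fin k → M) :=
      (LinearEquiv.ofEq _ _ (LinearMap.ker_fst A M (Fin k → M))).trans
        (LinearEquiv.ofInjective (LinearMap.inr A M (Fin k → M)) LinearMap.inr_injective).symm
    rw [e.finrank_eq, finrank_fin_pow M k]
    ring

/-- A minimal number of generators: relations have coordinates in the maximal ideal. -/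
theorem exists_minimal_gen [IsLocalRing A] (M : Type u) [AddCommGroup M] [Module A M] [Module.Finite A M] :
    ∃ (b : ℕ) (f : (Fin b → A) →ₗ[A] M), Function.Surjective f ∧
      ∀ v, f v = 0 → ∀ j, v j ∈ maximalIdeal A := by
  classical
  have hex : ∃ b, ∃ f : (Fin b → A) →ₗ[A] M, Function.Surjective f := Module.Finite.exists_fin' A M
  obtain ⟨f, hf⟩ := Nat.find_spec hex
  refine ⟨_, f, hf, fun v hv j => ?_⟩
  by_contra hj
  obtain ⟨b, hb⟩ : ∃ b, Nat.find hex = b + 1 := ⟨Nat.find hex - 1, by have := j.2; omega⟩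
  revert f v j
  rw [hb]
  intro f hf v hv j hj
  obtain ⟨w, hw⟩ := IsLocalRing.notMem_maximalIdeal.1 hj
  refine Nat.find_min hex (m := b) (by omega) ⟨Fintype.linearCombination A fun i => f (Pi.single (j.succAbove i) 1), ?_⟩
  rw [← LinearMap.range_eq_top, Fintype.range_linearCombination, eq_top_iff, ← LinearMap.range_eq_top.2 hf]
  rintro _ ⟨u, rfl⟩
  have hrest : ∀ u : Fin (b + 1) → A, u j = 0 →
      f u ∈ Submodule.span A (Set.range fun i => f (Pi.single (j.succAbove i) 1)) := fun u hu => by
    rw [pi_eq_sum_univ' u, map_sum, Fin.sum_univ_succAbove _ j]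
    refine add_mem (by rw [hu, zero_smul, map_zero]; exact zero_mem _) (sum_mem fun i _ => ?_)
    rw [map_smul]
    exact Submodule.smul_mem _ _ (Submodule.subset_span ⟨i, rfl⟩)
  have : f u = f (u - (u j * ↑w⁻¹) • v) := by rw [map_sub, map_smul, hv, smul_zero, sub_zero]
  rw [this]
  exact hrest _ (by simp [← hw])

variable [IsRegularLocalRing A] {M : Type u} [AddCommGroup M] [Module A M] [Module.Finite A M]

theorem free_three (h3 : ringKrullDim A = (3 : ℕ)) (htf : ∀ (c : A) (m : M), c ≠ 0 → c • m = 0 → m = 0)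
    (hfree : ∀ a ∈ maximalIdeal A, FreeAway M a) (hpd : PdLE A 1 M) {n : ℕ}
    (e : (Fin n → M) ≃ₗ[A] Module.End A M) : Module.Free A M := by
  classical
  haveI := isDomain_of_isRegularLocalRing A
  by_cases hM : Subsingleton M
  · exact Module.Free.of_subsingleton A M
  rw [not_subsingleton_iff_nontrivial] at hM
  obtain ⟨b, f, hf, hmin⟩ := exists_minimal_gen (A := A) M
  have hK : Module.Projective A (LinearMap.ker f) := pdLE_zero_iff.1 ((pdLE_succ_iff f hf).1 hpd)
  haveI : Module.Free A (LinearMap.ker f) := Module.free_of_flat_of_isLocalRing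
  let a := Module.finrank A (LinearMap.ker f)
  let φ : (Fin a → A) →ₗ[A] (Fin b → A) :=
    (LinearMap.ker f).subtype.comp (Module.finBasis A (LinearMap.ker f)).equivFun.symm.toLinearMap
  have hφ : Function.Injective φ :=
    Subtype.val_injective.comp (Module.finBasis A (LinearMap.ker f)).equivFun.symm.injective
  have hex : Function.Exact φ f := fun v => ⟨fun hv => ⟨(Module.finBasis A (LinearMap.ker f)).equivFun ⟨v, hv⟩,
      congrArg Subtype.val ((Module.finBasis A (LinearMap.ker f)).equivFun.symm_apply_apply ⟨v, hv⟩)⟩,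
    fun ⟨w, hw⟩ => hw ▸ ((Module.finBasis A (LinearMap.ker f)).equivFun.symm w).2⟩
  by_cases ha0 : a = 0
  · have hinj : Function.Injective f := by
      rw [← LinearMap.ker_eq_bot, Submodule.eq_bot_iff]
      intro v hv
      obtain ⟨w, rfl⟩ := (hex v).1 hv
      haveI : IsEmpty (Fin a) := by rw [ha0]; infer_instance
      rw [Subsingleton.elim w 0, map_zero]
    exact Module.Free.of_equiv (LinearEquiv.ofBijective f ⟨hinj, hf⟩)
  exfalso
  let Lf : Module.End A M →ₗ[A] ((Fin b → A) →ₗ[A] M) := LinearMap.lcomp A M f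
  let Lφ : ((Fin b → A) →ₗ[A] M) →ₗ[A] ((Fin a → A) →ₗ[A] M) := LinearMap.lcomp A M φ
  have hLf : Function.Injective Lf := fun F F' h => LinearMap.ext fun m => by
    obtain ⟨v, rfl⟩ := hf m
    exact LinearMap.congr_fun h v
  have hex1 : Function.Exact Lf Lφ.rangeRestrict := fun F => by
    refine ⟨fun hF => ?_, ?_⟩
    · have hle : LinearMap.ker f ≤ LinearMap.ker F := fun v hv => by
        obtain ⟨w, rfl⟩ := (hex v).1 hv
        exact LinearMap.congr_fun (congrArg Subtype.val hF) w
      exact ⟨((LinearMap.ker f).liftQ F hle).comp (f.quotKerEquivOfSurjective hf).symm.toLinearMap,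
        LinearMap.ext fun v => by simp [Lf]⟩
    · rintro ⟨F, rfl⟩
      exact Subtype.ext (LinearMap.ext fun w => by simp [Lf, Lφ, hex.apply_apply_eq_zero])
  let I := LinearMap.range Lφ
  let T := ((Fin a → A) →ₗ[A] M) ⧸ I
  haveI : Module.Finite A ((Fin a → A) →ₗ[A] M) :=
    Module.Finite.equiv (LinearEquiv.piRing A M (Fin a) A).symm
  haveI : Module.Finite A ((Fin b → A) →ₗ[A] M) :=
    Module.Finite.equiv (LinearEquiv.piRing A M (Fin b) A).symm
  haveI : Module.Finite A (Module.End A M) := Module.Finite.equiv e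
  have hT : ∀ x ∈ maximalIdeal A, ∀ t : T, ∃ N : ℕ, x ^ N • t = 0 := fun x hx t => by
    obtain ⟨F, rfl⟩ := I.mkQ_surjective t
    obtain ⟨N, r, α, β, hαβ⟩ := hfree x hx
    obtain ⟨l, hl⟩ := Module.projective_lifting_property f β hf
    have hs : ∀ v, f (x ^ N • v - l (α (f v))) = 0 := fun v => by
      rw [map_sub, map_smul, ← LinearMap.comp_apply f l, hl, hαβ, sub_self]
    choose t ht using fun v => (hex _).1 (hs v)
    let tl : (Fin b → A) →ₗ[A] (Fin a → A) :=
      { toFun := t
        map_add' := fun v w => hφ <| by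
          rw [map_add, ht, ht, ht, smul_add, map_add, map_add, map_add]
          abel
        map_smul' := fun c v => hφ <| by
          rw [map_smul, ht, ht, RingHom.id_apply, smul_comm, map_smul, map_smul, map_smul, smul_sub] }
    refine ⟨N, ?_⟩
    rw [← map_smul]
    refine (Submodule.Quotient.mk_eq_zero I).2 ⟨F.comp tl, LinearMap.ext fun w => ?_⟩
    show F (t (φ w)) = (x ^ N • F) w
    rw [LinearMap.smul_apply, ← map_smul]
    refine congrArg F (hφ ?_)
    rw [ht, hex.apply_apply_eq_zero, map_zero, map_zero, sub_zero, map_smul]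
  haveI : Nontrivial T := by
    rw [← not_subsingleton_iff_nontrivial]
    intro hsub
    obtain ⟨j⟩ : Nonempty (Fin a) := ⟨⟨0, Nat.pos_of_ne_zero ha0⟩⟩
    have htop : (⊤ : Submodule A M) ≤ maximalIdeal A • ⊤ := fun m _ => by
      let F : (Fin a → A) →ₗ[A] M := (LinearMap.toSpanSingleton A M m).comp (LinearMap.proj j)
      obtain ⟨F', hF'⟩ := (Submodule.Quotient.mk_eq_zero I).1 (Subsingleton.elim (I.mkQ F) 0)
      have hm : m = F' (φ (Pi.single j 1)) := by
        have := LinearMap.congr_fun hF' (Pi.single j 1)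
        simpa [F, Lφ] using this.symm
      rw [hm, pi_eq_sum_univ' (φ (Pi.single j 1)), map_sum]
      refine sum_mem fun i _ => ?_
      rw [map_smul]
      exact Submodule.smul_mem_smul (hmin _ (hex.apply_apply_eq_zero _) i) trivial
    have := Submodule.eq_bot_of_le_smul_of_le_jacobson_bot (maximalIdeal A) ⊤ Module.Finite.fg_top htop
      (IsLocalRing.maximalIdeal_le_jacobson _)
    exact not_subsingleton M ((Submodule.subsingleton_iff A).1 ((subsingleton_iff_bot_eq_top).1 this.symm))
  -- ranks
  have hrank : n + a = b := by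
    have hTor : Module.finrank A T = 0 := Module.finrank_eq_zero_iff_isTorsion.2 fun {t} => by
      obtain ⟨x, hx, hx2⟩ := SetLike.not_le_iff_exists.1 (maximalIdeal_sq_ne (R := A) fun hfd => by
        rw [ringKrullDim_eq_zero_of_isField hfd] at h3
        exact absurd h3 (by norm_num))
      obtain ⟨N, hN⟩ := hT x hx t
      exact ⟨⟨x ^ N, mem_nonZeroDivisors_of_ne_zero (pow_ne_zero _ fun h => hx2 (h ▸ zero_mem _))⟩, hN⟩
    have e1 : Module.finrank A T + Module.finrank A I = a * Module.finrank A M := by
      rw [Submodule.finrank_quotient_add_finrank, (LinearEquiv.piRing A M (Fin a) A).finrank_eq, finrank_fin_pow]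
    have e2 : Module.finrank A I + n * Module.finrank A M = b * Module.finrank A M := by
      rw [← finrank_fin_pow M n, e.finrank_eq, ← (LinearEquiv.ofInjective Lf hLf).finrank_eq.symm,
        ← LinearMap.exact_iff.1 hex1, LinearMap.ker_rangeRestrict,
        ← Lφ.quotKerEquivRange.finrank_eq, Submodule.finrank_quotient_add_finrank,
        (LinearEquiv.piRing A M (Fin b) A).finrank_eq, finrank_fin_pow]
    have hr : Module.finrank A M ≠ 0 := fun h0 => by
      obtain ⟨m, hm⟩ := exists_ne (0 : M)
      obtain ⟨⟨c, hc⟩, hcm⟩ := @Module.finrank_eq_zero_iff_isTorsion.1 h0 m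
      exact hm (htf c m (nonZeroDivisors.ne_zero hc) hcm)
    rw [hTor, zero_add] at e1
    rw [e1, ← add_mul, add_comm a n] at e2
    exact mul_right_cancel₀ hr e2
  -- the two sequences
  obtain ⟨δ, h1a, h1c, h1b⟩ := ext_sequence Lf Lφ.rangeRestrict hLf Lφ.surjective_rangeRestrict hex1
  obtain ⟨δ', h2a, h2c, -⟩ := ext_sequence I.subtype I.mkQ Subtype.val_injective I.mkQ_surjective
    (LinearMap.exact_subtype_mkQ I)
  let E := ExtA A M 1
  haveI : Module.Finite A E := inferInstanceAs (Module.Finite A (CategoryTheory.Abelian.Ext _ _ 1))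
  have hEfin : Module.length A E ≠ ⊤ := CycLib.length_ne_top_of_support (support_subset_closedPoint
    fun x hx c => (exists_pow_smul_ext (hfree x hx) 0).imp fun N hN => hN c)
  have hlenHom : ∀ k, Module.length A (ExtA A ((Fin k → A) →ₗ[A] M) 1) = k * Module.length A E := fun k => by
    rw [(extEquiv (LinearEquiv.piRing A M (Fin k) A).symm 1).length_eq, (extPiEquiv M k 1).length_eq, length_fin_pow]
  have hlenEnd : Module.length A (ExtA A (Module.End A M) 1) = n * Module.length A E := by
    rw [(extEquiv e 1).length_eq, (extPiEquiv M n 1).length_eq, length_fin_pow]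
  have hI1 : Module.length A (ExtA A I 1) ≤ a * Module.length A E := by
    rw [← hlenHom]
    refine Module.length_le_of_surjective (extMap I.subtype 1) fun z => (h2a 1 z).1 ?_
    exact @Subsingleton.elim _ (subsingleton_ext_finLen h3 hT (by norm_num)) _ _
  obtain ⟨z, hz⟩ := exists_ext_ne_zero h3 (by norm_num) hT
  have hsub3 : Subsingleton (ExtA A ((Fin a → A) →ₗ[A] M) 3) := by
    have := subsingleton_ext_pi (M := M) a 3 (subsingleton_ext_of_pdLE hpd (by norm_num))
    exact (extEquiv (LinearEquiv.piRing A M (Fin a) A) 3).symm.toEquiv.subsingleton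
  have hsub2 : Subsingleton (ExtA A ((Fin b → A) →ₗ[A] M) 2) := by
    have := subsingleton_ext_pi (M := M) b 2 (subsingleton_ext_of_pdLE hpd (by norm_num))
    exact (extEquiv (LinearEquiv.piRing A M (Fin b) A) 2).symm.toEquiv.subsingleton
  obtain ⟨y, rfl⟩ := (h2c 2 z).1 (Subsingleton.elim _ _)
  obtain ⟨w, rfl⟩ := (h1c 1 y).1 (Subsingleton.elim _ _)
  let β := extMap Lf 1
  have hX : Module.length A (LinearMap.range β) + 1 ≤ n * Module.length A E := by
    rw [← hlenEnd, Module.length_eq_add_of_exact (LinearMap.range β).subtype (LinearMap.range β).mkQ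
      Subtype.val_injective (Submodule.mkQ_surjective _) (LinearMap.exact_subtype_mkQ _)]
    gcongr
    rw [ENat.one_le_iff_ne_zero, Ne, Module.length_eq_zero_iff, Submodule.Quotient.subsingleton_iff]
    intro htop
    obtain ⟨v, hv⟩ := (htop ▸ Submodule.mem_top : w ∈ LinearMap.range β)
    exact hz (by rw [(h1a 1 w).2 ⟨v, hv⟩, map_zero])
  have hker : Module.length A (LinearMap.ker β) ≤ Module.length A (ExtA A I 1) := by
    refine Module.length_le_of_surjective ((extMap Lφ.rangeRestrict 1).codRestrict (LinearMap.ker β)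
      fun q => (h1b 1 _).2 ⟨q, rfl⟩) fun p => ?_
    obtain ⟨q, hq⟩ := (h1b 1 p.1).1 p.2
    exact ⟨q, Subtype.ext hq⟩
  have hb : (b : ℕ∞) * Module.length A E = Module.length A (LinearMap.ker β) + Module.length A (LinearMap.range β) := by
    rw [← hlenHom]
    exact Module.length_eq_add_of_exact (LinearMap.ker β).subtype β.rangeRestrict Subtype.val_injective
      β.surjective_rangeRestrict fun v => ⟨fun hv => ⟨⟨v, congrArg Subtype.val hv⟩, rfl⟩,
        fun ⟨q, hq⟩ => hq ▸ Subtype.ext q.2⟩
  have hfinal : (b : ℕ∞) * Module.length A E + 1 ≤ (b : ℕ∞) * Module.length A E := by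
    calc (b : ℕ∞) * Module.length A E + 1
        ≤ (a : ℕ∞) * Module.length A E + (Module.length A (LinearMap.range β) + 1) := by
          rw [hb, add_assoc]
          gcongr
          exact hker.trans hI1
      _ ≤ (a : ℕ∞) * Module.length A E + (n : ℕ∞) * Module.length A E := by gcongr
      _ = (b : ℕ∞) * Module.length A E := by rw [← add_mul, ← hrank, Nat.cast_add, add_comm (a : ℕ∞)]
  lift Module.length A E to ℕ using hEfin with l
  norm_cast at hfinal
  omega

end Groth.Agent.NonAbLib.Extend
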